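import Mathlib

/-!
# Simple modules: trace functions and isotypic counting

For an algebra `A` over a field `F` spanned by the image of an index set, the endomorphism fields of pairwise
non-isomorphic finite simple modules have total dimension at most the number of classes on which the traces agree.
-/

set_option autoImplicit false
set_option linter.unusedSectionVars false
set_option linter.style.haveILetI false

namespace Cfsg.Agent.ClassNumber.FittingPrime

variable {F A : Type*} [Field F] [Ring A] [Algebra F A]

section Simple

variable {T : Type*} [AddCommGroup T] [Module F T] [Module A T] [IsScalarTower F A T] [IsSimpleModule A T]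
  [Finite T]

/-- the endomorphisms of a finite simple module, as a field -/
@[reducible] noncomputable def endField : Field (Module.End A T) :=
  haveI : Finite (Module.End A T) := DFunLike.finite _
  letI := Classical.decEq (Module.End A T)
  littleWedderburn (Module.End A T)

/-- the action of an element as a map over the endomorphism ring -/
def act (a : A) : T →ₗ[Module.End A T] T where
  toFun v := a • v
  map_add' := smul_add a
  map_smul' d v := by simp only [Module.End.smul_def, map_smul, RingHom.id_apply]

@[simp] theorem act_apply (a : A) (v : T) : act (A := A) (T := T) a v = a • v := rfl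

theorem act_mul (a b : A) : act (T := T) (a * b) = act a * act b :=
  LinearMap.ext fun v => mul_smul a b v

/-- the trace over the endomorphism field -/
noncomputable def tr (a : A) : Module.End A T :=
  letI := endField (A := A) (T := T)
  LinearMap.trace (Module.End A T) T (act a)

theorem tr_mul_comm (a b : A) : tr (T := T) (a * b) = tr (T := T) (b * a) := by
  letI := endField (A := A) (T := T)
  unfold tr
  rw [act_mul, act_mul]
  exact LinearMap.trace_mul_comm _ _ _

theorem tr_add (a b : A) : tr (T := T) (a + b) = tr a + tr b := by
  letI := endField (A := A) (T := T)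
  unfold tr
  rw [← map_add]
  exact congrArg _ (LinearMap.ext fun v => add_smul a b v)

theorem tr_smul (c : F) (a : A) : tr (T := T) (c • a) = c • tr a := by
  letI := endField (A := A) (T := T)
  unfold tr
  have h : act (T := T) (c • a) = (c • (1 : Module.End A T)) • act a := LinearMap.ext fun v => by
    show (c • a) • v = (c • (1 : Module.End A T)) (a • v)
    rw [smul_assoc, LinearMap.smul_apply, Module.End.one_apply]
  rw [h, LinearMap.map_smul_of_tower, smul_eq_mul, smul_mul_assoc, one_mul]

/-- every endomorphism is the trace of some endomorphism-linear map -/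
theorem exists_trace (δ : Module.End A T) :
    ∃ ψ : T →ₗ[Module.End A T] T,
      letI := endField (A := A) (T := T)
      LinearMap.trace (Module.End A T) T ψ = δ := by
  letI := endField (A := A) (T := T)
  haveI := IsSimpleModule.nontrivial A T
  haveI : Module.Finite (Module.End A T) T := Module.Finite.of_finite
  let b := Module.Free.chooseBasis (Module.End A T) T
  obtain ⟨i⟩ : Nonempty (Module.Free.ChooseBasisIndex (Module.End A T) T) := b.index_nonempty
  refine ⟨(b.coord i).smulRight (δ • b i), ?_⟩
  rw [LinearMap.trace_smulRight, map_smul, Module.Basis.coord_apply, Module.Basis.repr_self,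
    Finsupp.single_eq_same, smul_eq_mul, mul_one]

end Simple

section Family

variable {ι : Type*} [Fintype ι] [DecidableEq ι] {T : ι → Type*} [∀ i, AddCommGroup (T i)] [∀ i, Module F (T i)]
  [∀ i, Module A (T i)] [∀ i, IsScalarTower F A (T i)] [∀ i, IsSimpleModule A (T i)] [∀ i, Finite (T i)]

/-- endomorphisms of a sum of pairwise non-isomorphic simple modules act componentwise -/
theorem end_pi_apply (hne : ∀ i j, i ≠ j → IsEmpty (T i ≃ₗ[A] T j)) (φ : Module.End A (Π i, T i))
    (w : Π i, T i) (i : ι) :
    φ w i = ((LinearMap.proj i).comp (φ.comp (LinearMap.single A T i))) (w i) := by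
  conv_lhs => rw [← Finset.univ_sum_single w]
  rw [map_sum, Finset.sum_apply, Finset.sum_eq_single i]
  · rfl
  · intro j _ hji
    let f : T j →ₗ[A] T i := (LinearMap.proj i).comp (φ.comp (LinearMap.single A T j))
    rcases f.bijective_or_eq_zero with hb | h0
    · exact ((hne j i hji).false (LinearEquiv.ofBijective f hb)).elim
    · exact LinearMap.congr_fun h0 (w j)
  · intro h; exact absurd (Finset.mem_univ i) h

/-- any family of endomorphism-linear maps comes from one element -/
theorem exists_act (hne : ∀ i j, i ≠ j → IsEmpty (T i ≃ₗ[A] T j))
    (ψ : ∀ i, T i →ₗ[Module.End A (T i)] T i) : ∃ a : A, ∀ i, act a = ψ i := by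
  classical
  let f : Module.End (Module.End A (Π i, T i)) (Π i, T i) :=
    { toFun := fun w i => ψ i (w i)
      map_add' := fun u w => funext fun i => by simp
      map_smul' := fun φ w => funext fun i => by
        simp only [Module.End.smul_def, RingHom.id_apply]
        rw [end_pi_apply hne φ w i, end_pi_apply hne φ (fun j => ψ j (w j)) i]
        exact (ψ i).map_smul ((LinearMap.proj i).comp (φ.comp (LinearMap.single A T i))) (w i) }
  have := Fintype.ofFinite (Π i, T i)
  obtain ⟨a, ha⟩ := jacobson_density f Finset.univ
  refine ⟨a, fun i => LinearMap.ext fun v => ?_⟩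
  have h := congrFun (ha (Pi.single i v) (Finset.mem_univ _)) i
  simpa [f] using h.symm

/-- the endomorphism fields have total dimension at most the number of classes -/
theorem sum_finrank_le [Finite F] (hne : ∀ i j, i ≠ j → IsEmpty (T i ≃ₗ[A] T j)) {C : Type*} [Group C]
    [Finite C] (σ : C →* A) (hspan : Submodule.span F (Set.range σ) = ⊤) :
    ∑ i, Module.finrank F (Module.End A (T i)) ≤ Nat.card (ConjClasses C) := by
  classical
  haveI : ∀ i, Finite (Module.End A (T i)) := fun i => DFunLike.finite _
  haveI : ∀ i, Module.Finite F (Module.End A (T i)) := fun i => Module.Finite.of_finite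
  let Θ : A →ₗ[F] Π i, Module.End A (T i) :=
    { toFun := fun a i => tr a
      map_add' := fun a b => funext fun i => tr_add a b
      map_smul' := fun c a => funext fun i => tr_smul c a }
  have hsur : LinearMap.range Θ = ⊤ := by
    refine LinearMap.range_eq_top.2 fun δ => ?_
    choose ψ hψ using fun i => exists_trace (δ i)
    obtain ⟨a, ha⟩ := exists_act hne ψ
    refine ⟨a, funext fun i => ?_⟩
    show tr a = δ i
    rw [tr, ha i]
    exact hψ i
  let θ : ConjClasses C → Π i, Module.End A (T i) :=
    Quotient.lift (fun c => Θ (σ c)) fun c c' (h : IsConj c c') => by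
      obtain ⟨u, hu⟩ := isConj_iff.1 h
      subst hu
      refine funext fun i => ?_
      show tr (σ c) = tr (σ (u * c * u⁻¹))
      rw [map_mul σ, tr_mul_comm, ← map_mul, inv_mul_cancel_left]
  haveI := Fintype.ofFinite (ConjClasses C)
  have hr : Submodule.span F (Set.range θ) = ⊤ := by
    rw [eq_top_iff, ← hsur, LinearMap.range_eq_map, ← hspan, Submodule.map_span]
    refine Submodule.span_mono ?_
    rintro _ ⟨_, ⟨c, rfl⟩, rfl⟩
    exact ⟨ConjClasses.mk c, rfl⟩
  calc ∑ i, Module.finrank F (Module.End A (T i))
      = Module.finrank F (Π i, Module.End A (T i)) := (Module.finrank_pi_fintype F).symm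
    _ = Module.finrank F (Submodule.span F (Set.range θ)) := by rw [hr, finrank_top]
    _ ≤ Fintype.card (ConjClasses C) := finrank_range_le_card θ
    _ = _ := (Nat.card_eq_fintype_card).symm

end Family

section Isotypic

variable {V : Type*} [AddCommGroup V] [Module F V] [Module A V] [IsScalarTower F A V] [Finite V]

/-- an isotypic component and the maps into it -/
theorem exists_mult [Finite F] [IsSemisimpleModule A V] (T : Submodule A V) [IsSimpleModule A T] :
    ∃ μ : ℕ, Nat.card (isotypicComponent A V T) = Nat.card T ^ μ ∧
      Module.finrank F (T →ₗ[A] V) ≤ μ * Module.finrank F (Module.End A T) := by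
  haveI : Module.Finite A (isotypicComponent A V T) := Module.Finite.of_finite
  obtain ⟨μ, ⟨e⟩⟩ := (IsIsotypicOfType.isotypicComponent A V T).linearEquiv_fun
  refine ⟨μ, by rw [Nat.card_congr e.toEquiv, Nat.card_fun, Nat.card_fin], ?_⟩
  have hmem : ∀ (m : T →ₗ[A] V) (v : T), m v ∈ isotypicComponent A V T := fun m v =>
    LinearMap.le_comap_isotypicComponent T m
      (le_sSup (s := {U : Submodule A T | Nonempty (U ≃ₗ[A] T)}) (a := ⊤) ⟨Submodule.topEquiv⟩ Submodule.mem_top)
  let Φ : (T →ₗ[A] V) →ₗ[F] (Fin μ → Module.End A T) :=
    { toFun := fun m j => (LinearMap.proj j).comp (e.toLinearMap.comp (m.codRestrict _ (hmem m)))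
      map_add' := fun m m' => funext fun j => LinearMap.ext fun v => by
        exact congrFun (map_add e ⟨m v, hmem m v⟩ ⟨m' v, hmem m' v⟩) j
      map_smul' := fun c m => funext fun j => LinearMap.ext fun v => by
        exact congrFun (LinearMap.map_smul_of_tower e.toLinearMap c ⟨m v, hmem m v⟩) j }
  have hinj : Function.Injective Φ := fun m m' h => LinearMap.ext fun v => by
    have h1 : e ⟨m v, hmem m v⟩ = e ⟨m' v, hmem m' v⟩ := funext fun j => LinearMap.congr_fun (congrFun h j) v
    exact congrArg Subtype.val (e.injective h1)
  haveI : Finite (Module.End A T) := DFunLike.finite _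
  haveI : Module.Finite F (Module.End A T) := Module.Finite.of_finite
  refine (LinearMap.finrank_le_finrank_of_injective hinj).trans (le_of_eq ?_)
  rw [Module.finrank_pi_fintype, Finset.sum_const, Finset.card_univ, Fintype.card_fin, smul_eq_mul]

end Isotypic

end Cfsg.Agent.ClassNumber.FittingPrime
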