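import Mathlib
import Cfsg.Agent.Lib.ClassNumber.FittingPrime.Trace
import Cfsg.Agent.GStructB.ThreeBase.Main

/-!
# A normal cyclic subgroup of prime order forces a small centralizer

In an irreducible solvable linear group with a normal subgroup of prime order without fixed points, with
automizer of order `e`, the part `C₀` of the centralizer satisfies `#C₀ ^ e ≤ #V ^ (3 k(C₀))`, and `2 ^ e ≤ #V`.
-/

set_option autoImplicit false
set_option linter.unusedSectionVars false
set_option linter.style.haveILetI false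

namespace Cfsg.Agent.ClassNumber.FittingPrime

open Polynomial

/-- a polynomial killing a subspace under all powers of a twist has as many roots as the twist has order -/
theorem orderOf_le_natDegree {F V : Type*} [Field F] [AddCommGroup V] [Module F V] [Module.Finite F V]
    {p : ℕ} [Fact p.Prime] (x : Module.End F V) (hxp : x ^ p = 1) (hfix : ∀ v, x v = v → v = 0)
    (I : Submodule F V) (hI : I ≠ ⊥) (hxI : ∀ v ∈ I, x v ∈ I) (π : F[X]) (hπ : π ≠ 0) (R : ℕ)
    (hkill : ∀ i : ℕ, ∀ v ∈ I, aeval (x ^ R ^ i) π v = 0) :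
    orderOf (R : ZMod p) ≤ π.natDegree := by
  classical
  set xI : Module.End F I := x.restrict hxI with hxIdef
  have hres : ∀ (g : F[X]) (v : I), ((aeval xI g v : I) : V) = aeval x g v := by
    intro g
    induction g using Polynomial.induction_on with
    | C a => intro v; simp
    | add a b ha hb => intro v; simp [ha, hb]
    | monomial n a ih =>
      intro v
      rw [pow_succ, ← mul_assoc, map_mul _ _ (Polynomial.X : F[X]), map_mul _ _ (Polynomial.X : F[X]),
        Module.End.mul_apply, Module.End.mul_apply, aeval_X, aeval_X, ih]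
      rfl
  haveI : Nontrivial I := Submodule.nontrivial_iff_ne_bot.2 hI
  set π0 := minpoly F xI with hπ0
  have hint : IsIntegral F xI := Algebra.IsIntegral.isIntegral xI
  obtain ⟨ζ, hζ⟩ := IsAlgClosed.exists_aeval_eq_zero (AlgebraicClosure F) π0
    (ne_of_gt (minpoly.degree_pos hint))
  have hdvd : ∀ g : F[X], (∀ v ∈ I, aeval x g v = 0) → aeval ζ g = 0 := by
    intro g hg
    have h0 : aeval xI g = 0 := LinearMap.ext fun v => Subtype.ext (by rw [hres]; exact hg v v.2)
    obtain ⟨g', hg'⟩ := minpoly.dvd F xI h0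
    rw [hg', map_mul, hζ, zero_mul]
  have hζp : ζ ^ p = 1 := by
    have h := hdvd (X ^ p - 1) fun v _ => by simp [hxp]
    simpa [sub_eq_zero] using h
  have hζ1 : ζ ≠ 1 := by
    intro h
    subst h
    have hr : π0.IsRoot 1 := by
      rw [← map_one (algebraMap F (AlgebraicClosure F)), aeval_algebraMap_apply,
        map_eq_zero] at hζ
      exact hζ
    obtain ⟨v, hv⟩ := (Module.End.hasEigenvalue_of_isRoot hr).exists_hasEigenvector
    have hv2 := hv.apply_eq_smul
    rw [one_smul] at hv2
    exact hv.2 (Subtype.ext (hfix _ (congrArg Subtype.val hv2)))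
  have hord : orderOf ζ = p := orderOf_eq_prime hζp hζ1
  have hroot : ∀ i : ℕ, aeval (ζ ^ R ^ i) π = 0 := by
    intro i
    have h := hdvd (π.comp (X ^ R ^ i)) fun v hv => by
      rw [aeval_comp, map_pow, aeval_X]
      exact hkill i v hv
    rwa [aeval_comp, map_pow, aeval_X] at h
  have hsub : (Finset.range (orderOf (R : ZMod p))).image (fun i => ζ ^ R ^ i) ⊆
      (π.map (algebraMap F (AlgebraicClosure F))).roots.toFinset := by
    intro z hz
    obtain ⟨i, -, rfl⟩ := Finset.mem_image.1 hz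
    rw [Multiset.mem_toFinset, mem_roots ((Polynomial.map_ne_zero_iff (algebraMap F _).injective).2 hπ),
      IsRoot.def, eval_map, ← aeval_def]
    exact hroot i
  have hinj : Set.InjOn (fun i : ℕ => ζ ^ R ^ i) (Finset.range (orderOf (R : ZMod p))) := by
    intro i hi j hj hij
    have hm : R ^ i ≡ R ^ j [MOD p] := by
      have h : ζ ^ ((R ^ i) % p) = ζ ^ ((R ^ j) % p) := by
        rw [← hord, pow_mod_orderOf, pow_mod_orderOf]; exact hij
      exact pow_injOn_Iio_orderOf (by rw [hord]; exact Nat.mod_lt _ (Fact.out : p.Prime).pos)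
        (by rw [hord]; exact Nat.mod_lt _ (Fact.out : p.Prime).pos) h
    have h2 : (R : ZMod p) ^ i = (R : ZMod p) ^ j := by
      rw [← Nat.cast_pow, ← Nat.cast_pow]; exact (ZMod.natCast_eq_natCast_iff _ _ _).2 hm
    exact pow_injOn_Iio_orderOf (by simpa using hi) (by simpa using hj) h2
  calc orderOf (R : ZMod p) = ((Finset.range (orderOf (R : ZMod p))).image (fun i => ζ ^ R ^ i)).card := by
        rw [Finset.card_image_of_injOn hinj, Finset.card_range]
    _ ≤ (π.map (algebraMap F (AlgebraicClosure F))).roots.toFinset.card := Finset.card_le_card hsub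
    _ ≤ Multiset.card (π.map (algebraMap F (AlgebraicClosure F))).roots := Multiset.toFinset_card_le _
    _ ≤ (π.map (algebraMap F (AlgebraicClosure F))).natDegree := card_roots' _
    _ = π.natDegree := natDegree_map _

section Twist

variable {F A V : Type*} [Field F] [Ring A] [Algebra F A] [AddCommGroup V] [Module F V] [Module A V]
  [IsScalarTower F A V] {H : Type*} [Group H] (ρ : Representation F H V)
  (hτ : ∀ (g : H) (a : A), ∃ b : A, ∀ v, ρ g (a • v) = b • ρ g v)

/-- a translate of a submodule -/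
def tw (g : H) (S : Submodule A V) : Submodule A V where
  carrier := {v | ρ g⁻¹ v ∈ S}
  add_mem' := fun {u v} hu hv => by
    show ρ g⁻¹ (u + v) ∈ S
    rw [map_add]; exact S.add_mem hu hv
  zero_mem' := by
    show ρ g⁻¹ 0 ∈ S
    rw [map_zero]; exact S.zero_mem
  smul_mem' := fun a v hv => by
    show ρ g⁻¹ (a • v) ∈ S
    obtain ⟨b, hb⟩ := hτ g⁻¹ a
    rw [hb]; exact S.smul_mem b hv

theorem mem_tw {g : H} {S : Submodule A V} {v : V} : v ∈ tw ρ hτ g S ↔ ρ g⁻¹ v ∈ S := Iff.rfl

theorem rho_inv_cancel (g : H) (v : V) : ρ g⁻¹ (ρ g v) = v := by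
  rw [← Module.End.mul_apply, ← map_mul, inv_mul_cancel, map_one, Module.End.one_apply]

theorem rho_cancel_inv (g : H) (v : V) : ρ g (ρ g⁻¹ v) = v := by
  rw [← Module.End.mul_apply, ← map_mul, mul_inv_cancel, map_one, Module.End.one_apply]

theorem tw_one (S : Submodule A V) : tw ρ hτ 1 S = S := by
  ext v; rw [mem_tw, inv_one, map_one, Module.End.one_apply]

theorem tw_tw (g k : H) (S : Submodule A V) : tw ρ hτ g (tw ρ hτ k S) = tw ρ hτ (g * k) S := by
  ext v; rw [mem_tw, mem_tw, mem_tw, ← Module.End.mul_apply, ← map_mul, mul_inv_rev]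

/-- translation as a lattice automorphism -/
def twOrder (g : H) : Submodule A V ≃o Submodule A V where
  toFun := tw ρ hτ g
  invFun := tw ρ hτ g⁻¹
  left_inv S := by rw [tw_tw, inv_mul_cancel, tw_one]
  right_inv S := by rw [tw_tw, mul_inv_cancel, tw_one]
  map_rel_iff' {S S'} := ⟨fun h v hv => by
    have h1 : ρ g v ∈ tw ρ hτ g S := by rw [mem_tw, rho_inv_cancel]; exact hv
    have h2 := h h1
    rw [Equiv.coe_fn_mk, mem_tw, rho_inv_cancel] at h2
    exact h2, fun h v hv => h hv⟩

theorem twOrder_apply (g : H) (S : Submodule A V) : twOrder ρ hτ g S = tw ρ hτ g S := rfl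

theorem tw_simple (g : H) (S : Submodule A V) [hS : IsSimpleModule A S] :
    IsSimpleModule A (tw ρ hτ g S) := by
  rw [isSimpleModule_iff_isAtom] at hS ⊢
  rw [← twOrder_apply]
  exact ((twOrder ρ hτ g).isAtom_iff S).2 hS

/-- a translate of a homomorphism -/
def twMap (g : H) {S S' : Submodule A V} (f : S →ₗ[A] S') : tw ρ hτ g S →ₗ[A] tw ρ hτ g S' where
  toFun w := ⟨ρ g (f ⟨ρ g⁻¹ w, w.2⟩), by rw [mem_tw, rho_inv_cancel]; exact Submodule.coe_mem _⟩
  map_add' u w := Subtype.ext (by
    have h1 : (⟨ρ g⁻¹ ((u + w : tw ρ hτ g S) : V), (u + w).2⟩ : S) =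
        ⟨ρ g⁻¹ u, u.2⟩ + ⟨ρ g⁻¹ w, w.2⟩ := Subtype.ext (map_add _ _ _)
    show ρ g (f ⟨ρ g⁻¹ ((u + w : tw ρ hτ g S) : V), _⟩) = ρ g (f _) + ρ g (f _)
    rw [h1, map_add, Submodule.coe_add, map_add])
  map_smul' a w := Subtype.ext (by
    obtain ⟨b, hb⟩ := hτ g⁻¹ a
    have h1 : (⟨ρ g⁻¹ ((a • w : tw ρ hτ g S) : V), (a • w).2⟩ : S) = b • ⟨ρ g⁻¹ w, w.2⟩ :=
      Subtype.ext (hb w)
    show ρ g (f ⟨ρ g⁻¹ ((a • w : tw ρ hτ g S) : V), _⟩) = a • ρ g (f _)
    rw [h1, map_smul, Submodule.coe_smul]
    have h2 := hb (ρ g ((f ⟨ρ g⁻¹ (w : V), w.2⟩ : S') : V))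
    rw [rho_inv_cancel] at h2
    rw [← h2, rho_cancel_inv])

theorem twMap_apply (g : H) {S S' : Submodule A V} (f : S →ₗ[A] S') (w : tw ρ hτ g S) :
    (twMap ρ hτ g f w : V) = ρ g (f ⟨ρ g⁻¹ w, w.2⟩) := rfl

/-- a translate of an isomorphism -/
def twIso (g : H) {S S' : Submodule A V} (e : S ≃ₗ[A] S') : tw ρ hτ g S ≃ₗ[A] tw ρ hτ g S' :=
  LinearEquiv.ofLinearMap (twMap ρ hτ g e.toLinearMap) (twMap ρ hτ g e.symm.toLinearMap)
    (LinearMap.ext fun w => Subtype.ext (by
      rw [LinearMap.comp_apply, twMap_apply, LinearMap.id_apply]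
      simp only [twMap_apply, rho_inv_cancel, Subtype.coe_eta]
      simp [rho_cancel_inv]))
    (LinearMap.ext fun w => Subtype.ext (by
      rw [LinearMap.comp_apply, twMap_apply, LinearMap.id_apply]
      simp only [twMap_apply, rho_inv_cancel, Subtype.coe_eta]
      simp [rho_cancel_inv]))

/-- a commuting operator translates to an isomorphic module -/
noncomputable def twComm (g : H) (hg : ∀ (a : A) v, ρ g (a • v) = a • ρ g v) (S : Submodule A V) :
    S ≃ₗ[A] tw ρ hτ g S where
  toFun v := ⟨ρ g v, by rw [mem_tw, rho_inv_cancel]; exact v.2⟩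
  map_add' u v := Subtype.ext (map_add _ _ _)
  map_smul' a v := Subtype.ext (hg a v)
  invFun w := ⟨ρ g⁻¹ w, w.2⟩
  left_inv v := Subtype.ext (rho_inv_cancel ρ g v)
  right_inv w := Subtype.ext (rho_cancel_inv ρ g w)

theorem card_tw (g : H) (S : Submodule A V) : Nat.card (tw ρ hτ g S) = Nat.card S :=
  Nat.card_congr
    { toFun := fun w => ⟨ρ g⁻¹ w, w.2⟩
      invFun := fun v => ⟨ρ g v, by rw [mem_tw, rho_inv_cancel]; exact v.2⟩
      left_inv := fun w => Subtype.ext (rho_cancel_inv ρ g w)
      right_inv := fun v => Subtype.ext (rho_inv_cancel ρ g v) }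

theorem tw_isotypic_le (g : H) (S : Submodule A V) :
    tw ρ hτ g (isotypicComponent A V S) ≤ isotypicComponent A V (tw ρ hτ g S) := by
  rw [← twOrder_apply, isotypicComponent, OrderIso.map_sSup]
  exact iSup₂_le fun m ⟨e⟩ => le_sSup ⟨twIso ρ hτ g e⟩

theorem tw_isotypic (g : H) (S : Submodule A V) :
    tw ρ hτ g (isotypicComponent A V S) = isotypicComponent A V (tw ρ hτ g S) := by
  refine le_antisymm (tw_isotypic_le ρ hτ g S) ?_
  have h := (twOrder ρ hτ g).monotone (tw_isotypic_le ρ hτ g⁻¹ (tw ρ hτ g S))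
  have e : isotypicComponent A V (tw ρ hτ g⁻¹ (tw ρ hτ g S)) = isotypicComponent A V S :=
    (LinearEquiv.ofEq _ _ (by rw [tw_tw, inv_mul_cancel, tw_one])).isotypicComponent_eq
  simp only [twOrder_apply, e, tw_tw, mul_inv_cancel, tw_one] at h
  exact h

/-- the translate of an endomorphism, linearly -/
def twEnd (g : H) (S : Submodule A V) : Module.End A S →ₗ[F] Module.End A (tw ρ hτ g S) where
  toFun d := twMap ρ hτ g d
  map_add' d d' := LinearMap.ext fun w => Subtype.ext (by
    show ρ g ((d + d') _ : S) = ρ g (d _ : S) + ρ g (d' _ : S)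
    rw [← map_add]; rfl)
  map_smul' c d := LinearMap.ext fun w => Subtype.ext (by
    show ρ g ((c • d) _ : S) = c • ρ g (d _ : S)
    rw [← map_smul]; rfl)

theorem twEnd_injective (g : H) (S : Submodule A V) : Function.Injective (twEnd ρ hτ g S) := by
  intro d d' h
  refine LinearMap.ext fun v => Subtype.ext ?_
  have h1 := congrArg (fun f : Module.End A (tw ρ hτ g S) =>
    ρ g⁻¹ (f ⟨ρ g v, by rw [mem_tw, rho_inv_cancel]; exact v.2⟩ : V)) h
  simpa [twEnd, twMap_apply, rho_inv_cancel] using h1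

end Twist

section Key

/-- the main bound on the centralizer part -/
theorem key {q : ℕ} [Fact q.Prime] {A V : Type*} [Ring A] [Algebra (ZMod q) A] [AddCommGroup V]
    [Module (ZMod q) V] [Module A V] [IsScalarTower (ZMod q) A V] [Finite V] [Nontrivial V]
    {H : Type*} [Group H] [Finite H] [hsol : Group.IsSolvable H] (ρ : Representation (ZMod q) H V)
    (hinj : Function.Injective ρ)
    (hirr : ∀ U : Submodule (ZMod q) V, (∀ g, ∀ v ∈ U, ρ g v ∈ U) → U = ⊥ ∨ U = ⊤)
    (C₀ : Subgroup H) [hC₀ : C₀.Normal] (σ : C₀ →* A) (hσ : ∀ c v, σ c • v = ρ (c : H) v)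
    (hspan : Submodule.span (ZMod q) (Set.range σ) = ⊤)
    {p : ℕ} [Fact p.Prime] (x h : H) (r : ℕ) (hr : 0 < orderOf (r : ZMod p)) (hx : x ^ p = 1)
    (hfix : ∀ v, ρ x v = v → v = 0) (hxc : ∀ c ∈ C₀, x * c = c * x) (hconj : h * x * h⁻¹ = x ^ r)
    (hgen : ∀ g : H, ∃ i j : ℕ, ∃ c ∈ C₀, g = h ^ i * x ^ j * c) :
    2 ^ orderOf (r : ZMod p) ≤ Nat.card V ∧
      Nat.card C₀ ^ orderOf (r : ZMod p) ≤ Nat.card V ^ (3 * Nat.card (ConjClasses C₀)) := by
  classical
  haveI : Module.Finite (ZMod q) V := Module.Finite.of_finite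
  have hall : ∀ (P : A → Prop), P 0 → (∀ a b, P a → P b → P (a + b)) → (∀ (c : ZMod q) a, P a → P (c • a)) →
      (∀ c, P (σ c)) → ∀ a, P a := by
    intro P h0 hadd hsm hg a
    exact Submodule.span_induction (p := fun a _ => P a) (by rintro _ ⟨c, rfl⟩; exact hg c) h0
      (fun a b _ _ => hadd a b) (fun c a _ => hsm c a) (hspan ▸ Submodule.mem_top : a ∈ Submodule.span (ZMod q) (Set.range σ))
  have hτ : ∀ (g : H) (a : A), ∃ b : A, ∀ v, ρ g (a • v) = b • ρ g v := fun g => hall _
    ⟨0, fun v => by simp⟩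
    (fun a a' ⟨b, hb⟩ ⟨b', hb'⟩ => ⟨b + b', fun v => by rw [add_smul, map_add, hb, hb', add_smul]⟩)
    (fun c a ⟨b, hb⟩ => ⟨c • b, fun v => by rw [smul_assoc, map_smul, hb, smul_assoc]⟩)
    (fun c => ⟨σ ⟨g * c * g⁻¹, hC₀.conj_mem c c.2 g⟩, fun v => by
      simp only [hσ]
      rw [← Module.End.mul_apply, ← map_mul, ← Module.End.mul_apply, ← map_mul, inv_mul_cancel_right]⟩)
  have hxA : ∀ (a : A) v, ρ x (a • v) = a • ρ x v := hall _ (fun v => by simp)
    (fun a b ha hb v => by rw [add_smul, map_add, ha, hb, add_smul])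
    (fun c a ha v => by rw [smul_assoc, map_smul, ha, smul_assoc])
    (fun c v => by
      rw [hσ, hσ, ← Module.End.mul_apply, ← map_mul, ← Module.End.mul_apply, ← map_mul, hxc c c.2])
  have hxjA : ∀ (j : ℕ) (a : A) v, ρ (x ^ j) (a • v) = a • ρ (x ^ j) v := by
    intro j
    induction j with
    | zero => intro a v; simp
    | succ j ih =>
      intro a v
      rw [pow_succ', map_mul, Module.End.mul_apply, Module.End.mul_apply, ih, hxA]
  -- a simple submodule and its translates
  haveI : IsAtomic (Submodule A V) := Finite.to_isAtomic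
  haveI : Nontrivial (Submodule A V) := (Submodule.nontrivial_iff A).2 inferInstance
  obtain hbot | ⟨T, hT, -⟩ := eq_bot_or_exists_atom_le (⊤ : Submodule A V)
  · exact absurd hbot top_ne_bot
  haveI hTs : IsSimpleModule A T := isSimpleModule_iff_isAtom.2 hT
  haveI htws : ∀ g, IsSimpleModule A (tw ρ hτ g T) := fun g => tw_simple ρ hτ g T
  have htop : (⨆ g, tw ρ hτ g T) = ⊤ := by
    set S₀ := ⨆ g, tw ρ hτ g T with hS₀
    have hfixS : ∀ k, tw ρ hτ k S₀ ≤ S₀ := fun k => by
      rw [hS₀, ← twOrder_apply, OrderIso.map_iSup]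
      exact iSup_le fun g => (twOrder_apply ρ hτ k _).le.trans (by
        rw [tw_tw]; exact le_iSup (fun g => tw ρ hτ g T) _)
    rcases hirr (S₀.restrictScalars (ZMod q)) (fun g v hv => hfixS g (by
      rw [mem_tw, rho_inv_cancel]; exact hv)) with h0 | h1
    · refine absurd ?_ hT.1
      rw [Submodule.restrictScalars_eq_bot_iff] at h0
      rw [eq_bot_iff, ← h0]
      exact le_of_eq_of_le (tw_one ρ hτ T).symm (le_iSup (fun g => tw ρ hτ g T) 1)
    · exact (Submodule.restrictScalars_eq_top_iff _ _ _).1 h1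
  haveI : IsSemisimpleModule A V :=
    isSemisimpleModule_of_isSemisimpleModule_submodule' (fun g => inferInstance) htop
  -- the period of the translates
  have hex : ∃ i, 0 < i ∧ Nonempty (tw ρ hτ (h ^ i) T ≃ₗ[A] T) :=
    ⟨orderOf h, orderOf_pos h, ⟨LinearEquiv.ofEq _ _ (by rw [pow_orderOf_eq_one, tw_one])⟩⟩
  set s := Nat.find hex with hsdef
  obtain ⟨hs0, ⟨es⟩⟩ := Nat.find_spec hex
  have hshift : ∀ a b, Nonempty (tw ρ hτ (h ^ a) T ≃ₗ[A] T) →
      Nonempty (tw ρ hτ (h ^ (b + a)) T ≃ₗ[A] tw ρ hτ (h ^ b) T) := by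
    rintro a b ⟨e⟩
    rw [pow_add, ← tw_tw]
    exact ⟨twIso ρ hτ _ e⟩
  have hmul : ∀ m, Nonempty (tw ρ hτ (h ^ (s * m)) T ≃ₗ[A] T) := by
    intro m
    induction m with
    | zero => exact ⟨LinearEquiv.ofEq _ _ (by rw [mul_zero, pow_zero, tw_one])⟩
    | succ m ih =>
      obtain ⟨e⟩ := hshift _ (s * m) ⟨es⟩
      exact ⟨e.trans ih.some⟩
  let Tf : Fin s → Submodule A V := fun i => tw ρ hτ (h ^ (i : ℕ)) T
  have hne : ∀ i j, i ≠ j → IsEmpty (Tf i ≃ₗ[A] Tf j) := by
    have key : ∀ i j : Fin s, (i : ℕ) < j → IsEmpty (Tf i ≃ₗ[A] Tf j) := fun i j hij => ⟨fun e => by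
      have h1 : Nonempty (tw ρ hτ (h ^ ((j : ℕ) - i)) T ≃ₗ[A] T) := by
        have e1 := twIso ρ hτ (h ^ (i : ℕ))⁻¹ e.symm
        refine ⟨((LinearEquiv.ofEq _ _ ?_).trans e1).trans (LinearEquiv.ofEq _ _ ?_)⟩
        · rw [tw_tw]
          congr 1
          rw [eq_inv_mul_iff_mul_eq, ← pow_add, Nat.add_sub_cancel' hij.le]
        · rw [tw_tw, inv_mul_cancel, tw_one]
      have := Nat.find_min' hex ⟨by omega, h1⟩
      have := j.isLt
      omega⟩
    intro i j hij
    rcases lt_or_gt_of_ne (Fin.val_ne_of_ne hij) with h' | h'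
    · exact key i j h'
    · exact ⟨fun e => (key j i h').false e.symm⟩
  haveI : ∀ i, IsSimpleModule A (Tf i) := fun i => htws _
  -- multiplicities
  obtain ⟨μ, hμI, hμM⟩ := exists_mult (F := ZMod q) T
  set I := isotypicComponent A V T with hIdef
  set f := Module.finrank (ZMod q) (Module.End A T) with hf
  have hgI : ∀ i, tw ρ hτ (h ^ (s * i)) I = I := fun i => by
    rw [hIdef, tw_isotypic]; exact (hmul i).some.isotypicComponent_eq
  -- the twist has order at most the multiplicity times the field degree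
  have ho : orderOf (((r : ZMod p)) ^ s) ≤ μ * f := by
    refine le_trans ?_ hμM
    haveI : Finite (T →ₗ[A] V) := DFunLike.finite _
    haveI : Module.Finite (ZMod q) (T →ₗ[A] V) := Module.Finite.of_finite
    let xA : V →ₗ[A] V := { toFun := ρ x, map_add' := map_add _, map_smul' := hxA }
    let X : Module.End (ZMod q) (T →ₗ[A] V) :=
      { toFun := fun m => xA.comp m
        map_add' := fun m m' => LinearMap.comp_add _ _ _
        map_smul' := fun c m => LinearMap.ext fun v => map_smul (ρ x) c (m v) }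
    set π := minpoly (ZMod q) X with hπ
    have hπd : π.natDegree ≤ Module.finrank (ZMod q) (T →ₗ[A] V) := by
      rw [← LinearMap.charpoly_natDegree X]
      exact natDegree_le_of_dvd (LinearMap.minpoly_dvd_charpoly X) (LinearMap.charpoly_monic X).ne_zero
    refine le_trans ?_ hπd
    have hev : ∀ (g : (ZMod q)[X]) (m : T →ₗ[A] V) (v : T), aeval X g m v = aeval (ρ x) g (m v) := by
      intro g
      induction g using Polynomial.induction_on with
      | C a => intro m v; simp
      | add a b ha hb => intro m v; simp [ha, hb]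
      | monomial n a ih =>
        intro m v
        rw [pow_succ, ← mul_assoc, map_mul _ _ (Polynomial.X : (ZMod q)[X]),
          map_mul _ _ (Polynomial.X : (ZMod q)[X]), Module.End.mul_apply, Module.End.mul_apply,
          aeval_X, aeval_X, ih]
        rfl
    have hk0 : ∀ v ∈ I, aeval (ρ x) π v = 0 := by
      intro v hv
      let K : Submodule (ZMod q) V := LinearMap.ker (aeval (ρ x) π)
      have hle : ∀ m : Submodule A V, Nonempty (m ≃ₗ[A] T) → ∀ w ∈ m, w ∈ K := by
        rintro m ⟨e⟩ w hw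
        have h1 := hev π (m.subtype.comp e.symm.toLinearMap) (e ⟨w, hw⟩)
        rw [minpoly.aeval] at h1
        simpa [K] using h1.symm
      refine LinearMap.mem_ker.1 (?_ : v ∈ K)
      rw [hIdef, isotypicComponent, sSup_eq_iSup'] at hv
      exact Submodule.iSup_induction _ (motive := fun v => v ∈ K) hv (fun m w hw => hle m m.2 w hw)
        K.zero_mem (fun _ _ => K.add_mem)
    have hR : ∀ i : ℕ, ∀ v ∈ I, aeval (ρ x ^ (r ^ s) ^ i) π v = 0 := by
      intro i v hv
      set g := h ^ (s * i) with hg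
      have hpow : ∀ n : ℕ, h ^ n * x * (h ^ n)⁻¹ = x ^ r ^ n := by
        intro n
        induction n with
        | zero => simp
        | succ n ih =>
          rw [pow_succ', mul_inv_rev, pow_succ, pow_mul, ← ih, conj_pow, ← hconj]
          group
      have hxg : ρ x ^ (r ^ s) ^ i = ρ g * ρ x * ρ g⁻¹ := by
        rw [← pow_mul, ← map_pow, ← hpow, ← hg, map_mul, map_mul]
      have hcj : ∀ (P : (ZMod q)[X]) (w : V),
          aeval (ρ g * ρ x * ρ g⁻¹) P w = ρ g (aeval (ρ x) P (ρ g⁻¹ w)) := by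
        intro P
        induction P using Polynomial.induction_on with
        | C a => intro w; simp [rho_cancel_inv]
        | add a b ha hb => intro w; simp [ha, hb]
        | monomial n a ih =>
          intro w
          rw [pow_succ, ← mul_assoc, map_mul _ _ (Polynomial.X : (ZMod q)[X]),
            map_mul _ _ (Polynomial.X : (ZMod q)[X]), Module.End.mul_apply, Module.End.mul_apply,
            aeval_X, aeval_X, ih, Module.End.mul_apply, Module.End.mul_apply, rho_inv_cancel]
      rw [hxg, hcj]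
      have hv' : ρ g⁻¹ v ∈ I := (mem_tw ρ hτ).1 ((hgI i).symm ▸ hv)
      rw [hk0 _ hv', map_zero]
    have hI0 : I.restrictScalars (ZMod q) ≠ ⊥ := by
      rw [Ne, Submodule.restrictScalars_eq_bot_iff]
      exact (bot_lt_isotypicComponent T).ne'
    rw [← Nat.cast_pow]
    exact orderOf_le_natDegree (ρ x) (by rw [← map_pow, hx, map_one]) hfix (I.restrictScalars (ZMod q)) hI0
      (fun v hv => LinearMap.le_comap_isotypicComponent T xA hv) π
      (minpoly.ne_zero (Algebra.IsIntegral.isIntegral X)) (r ^ s) hR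
  set e := orderOf (r : ZMod p) with he
  have hes : e ≤ s * (μ * f) := by
    have hdvd : e ∣ s * orderOf ((r : ZMod p) ^ s) :=
      orderOf_dvd_of_pow_eq_one (by rw [pow_mul, pow_orderOf_eq_one])
    have hpos : 0 < orderOf ((r : ZMod p) ^ s) := (orderOf_pos_iff.1 hr).pow.orderOf_pos
    exact (Nat.le_of_dvd (Nat.mul_pos hs0 hpos) hdvd).trans (Nat.mul_le_mul_left _ ho)
  -- the components are independent
  have hV : (Nat.card T) ^ (s * μ) ≤ Nat.card V := by
    let If : Fin s → Submodule A V := fun i => isotypicComponent A V (Tf i)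
    have hIinj : Function.Injective If := by
      intro i j hij
      by_contra hne'
      have h1 : Tf j ≤ If i := by
        rw [hij]; exact Submodule.le_isotypicComponent _
      obtain ⟨e1⟩ := isIsotypicOfType_submodule_iff.1 (IsIsotypicOfType.isotypicComponent A V (Tf i))
        (Tf j) h1
      exact (hne j i (Ne.symm hne')).false e1
    have hind : iSupIndep If := by
      have h1 := (sSupIndep_iff (s := isotypicComponents A V)).1 (sSupIndep_isotypicComponents A V)
      exact h1.comp (f := fun i => (⟨If i, Tf i, inferInstance, rfl⟩ : isotypicComponents A V))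
        (fun i j hij => hIinj (congrArg Subtype.val hij))
    have hcard := Nat.card_le_card_of_injective _
      (hind.dfinsupp_lsum_injective.comp (DFinsupp.equivFunOnFintype (β := fun i => If i)).symm.injective)
    have heach : ∀ i, Nat.card (If i) = Nat.card T ^ μ := fun i => by
      rw [← hμI]
      show Nat.card (isotypicComponent A V (tw ρ hτ (h ^ (i : ℕ)) T)) = _
      rw [← tw_isotypic, card_tw]
    rw [Nat.card_pi, Finset.prod_congr rfl (fun i _ => heach i), Finset.prod_const, Finset.card_univ,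
      Fintype.card_fin, ← pow_mul, mul_comm] at hcard
    exact hcard
  -- the classes
  have hk : s * f ≤ Nat.card (ConjClasses C₀) := by
    refine le_trans ?_ (sum_finrank_le (F := ZMod q) (T := fun i => Tf i) hne σ hspan)
    have hle : ∀ i, f ≤ Module.finrank (ZMod q) (Module.End A (Tf i)) := fun i => by
      haveI : Finite (Module.End A (Tf i)) := DFunLike.finite _
      haveI : Module.Finite (ZMod q) (Module.End A (Tf i)) := Module.Finite.of_finite
      exact LinearMap.finrank_le_finrank_of_injective (twEnd_injective ρ hτ _ T)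
    calc s * f = ∑ _i : Fin s, f := by rw [Finset.sum_const, Finset.card_univ, Fintype.card_fin, smul_eq_mul]
      _ ≤ _ := Finset.sum_le_sum fun i _ => hle i
  have hT1 : 1 < Nat.card T := by
    haveI := IsSimpleModule.nontrivial A T
    exact Finite.one_lt_card
  -- a faithful completely reducible module of small order
  let W := Π i : Fin s, Tf i
  have hC : Nat.card C₀ ≤ (Nat.card T ^ s) ^ 3 := by
    letI : DistribMulAction C₀ W := DistribMulAction.compHom W σ
    have hsmul : ∀ (c : C₀) (w : W), c • w = σ c • w := fun _ _ => rfl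
    haveI : FaithfulSMul C₀ W := ⟨fun {c c'} hcc => by
      have h0 : ∀ (g : H) v, v ∈ tw ρ hτ g T → σ c • v = σ c' • v := by
        intro g v hv
        obtain ⟨i, j, d, hd, rfl⟩ := hgen g
        have hTd : tw ρ hτ d T = T := by
          ext w
          rw [mem_tw]
          constructor
          · intro hw
            have := T.smul_mem (σ ⟨d, hd⟩) hw
            rwa [hσ, rho_cancel_inv] at this
          · intro hw
            have := T.smul_mem (σ ⟨d⁻¹, C₀.inv_mem hd⟩) hw
            rwa [hσ] at this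
        have e1 : tw ρ hτ (h ^ i * x ^ j * d) T = tw ρ hτ (h ^ i) (tw ρ hτ (x ^ j) T) := by
          rw [tw_tw, ← tw_tw ρ hτ (h ^ i * x ^ j) d, hTd]
        have hi : Nonempty (tw ρ hτ (h ^ i * x ^ j * d) T ≃ₗ[A] tw ρ hτ (h ^ (i % s)) T) := by
          have e2 : tw ρ hτ (h ^ i * x ^ j * d) T ≃ₗ[A] tw ρ hτ (h ^ i) T :=
            (LinearEquiv.ofEq _ _ e1).trans (twIso ρ hτ _ (twComm ρ hτ (x ^ j) (hxjA j) T).symm)
          obtain ⟨e3⟩ := hshift (s * (i / s)) (i % s) (hmul _)
          refine ⟨e2.trans ((LinearEquiv.ofEq _ _ ?_).trans e3)⟩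
          rw [Nat.mod_add_div]
        obtain ⟨e4⟩ := hi
        have h4 := congrFun (hcc (Pi.single (⟨i % s, Nat.mod_lt _ hs0⟩ : Fin s) (e4 ⟨v, hv⟩) : W))
          ⟨i % s, Nat.mod_lt _ hs0⟩
        change σ c • ((Pi.single (⟨i % s, Nat.mod_lt _ hs0⟩ : Fin s) (e4 ⟨v, hv⟩) : W) ⟨i % s, Nat.mod_lt _ hs0⟩) =
          σ c' • ((Pi.single (⟨i % s, Nat.mod_lt _ hs0⟩ : Fin s) (e4 ⟨v, hv⟩) : W) ⟨i % s, Nat.mod_lt _ hs0⟩) at h4
        rw [Pi.single_eq_same] at h4
        rw [← map_smul, ← map_smul] at h4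
        exact congrArg Subtype.val (e4.injective h4)
      refine Subtype.ext (hinj (LinearMap.ext fun v => ?_))
      rw [← hσ, ← hσ]
      exact Submodule.iSup_induction _ (motive := fun v => σ c • v = σ c' • v)
        (htop ▸ Submodule.mem_top : v ∈ ⨆ g, tw ρ hτ g T) h0 (by simp)
        (fun a b ha hb => by rw [smul_add, smul_add, ha, hb])⟩
    haveI hsolC : Group.IsSolvable C₀ := inferInstance
    obtain ⟨w₁, w₂, w₃, hw⟩ := GStructB.ThreeBase.three_vectors (A := C₀) (V := W) hsolC (by
      intro U hU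
      let U' : Submodule A W :=
        { U with
          smul_mem' := fun a w hw => hall (fun a => ∀ w ∈ U, a • w ∈ U)
            (fun w _ => by rw [zero_smul]; exact U.zero_mem)
            (fun a b ha hb w hw => by rw [add_smul]; exact U.add_mem (ha w hw) (hb w hw))
            (fun c a ha w hw => by rw [smul_assoc]; exact ZMod.smul_mem (ha w hw) c)
            (fun c w hw => hU c w hw) a w hw }
      obtain ⟨W', hW'⟩ := exists_isCompl U'
      refine ⟨W'.toAddSubgroup, fun c w hw => W'.smul_mem (σ c) hw, ?_, ?_⟩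
      · rw [eq_bot_iff]
        rintro w ⟨h1, h2⟩
        exact (Submodule.mem_bot A).1 (hW'.inf_eq_bot.le ⟨h1, h2⟩)
      · rw [eq_top_iff]
        intro w _
        obtain ⟨u, hu, u', hu', rfl⟩ := Submodule.mem_sup.1 (hW'.sup_eq_top.ge (Submodule.mem_top (x := w)))
        exact add_mem (AddSubgroup.mem_sup_left hu) (AddSubgroup.mem_sup_right hu'))
    have hinjW : Function.Injective fun c : C₀ => (c • w₁, c • w₂, c • w₃) := by
      intro c c' hcc
      simp only [Prod.mk.injEq] at hcc
      obtain ⟨h1, h2, h3⟩ := hcc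
      have hone : c'⁻¹ * c = 1 := eq_of_smul_eq_smul fun v : W => by
        rw [hw (c'⁻¹ * c) (by rw [mul_smul, h1, inv_smul_smul]) (by rw [mul_smul, h2, inv_smul_smul])
          (by rw [mul_smul, h3, inv_smul_smul]) v, one_smul]
      exact (inv_mul_eq_one.1 hone).symm
    refine (Nat.card_le_card_of_injective _ hinjW).trans (le_of_eq ?_)
    have hW : Nat.card W = Nat.card T ^ s := by
      rw [Nat.card_pi, Finset.prod_congr rfl (fun i _ => card_tw ρ hτ _ T), Finset.prod_const,
        Finset.card_univ, Fintype.card_fin]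
    rw [Nat.card_prod, Nat.card_prod, hW, pow_succ, pow_succ, pow_one]
    ring
  refine ⟨?_, ?_⟩
  · have hDT : Nat.card (Module.End A T) ≤ Nat.card T := by
      haveI := IsSimpleModule.nontrivial A T
      obtain ⟨t, ht⟩ := exists_ne (0 : T)
      refine Nat.card_le_card_of_injective (fun d => d t) fun d d' hdd => ?_
      rcases (d - d').bijective_or_eq_zero with hb | h0
      · exact absurd (hb.1 (by simp [show d t = d' t from hdd] : (d - d') t = (d - d') 0)) ht
      · exact sub_eq_zero.1 h0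
    haveI : Finite (Module.End A T) := DFunLike.finite _
    haveI : Module.Finite (ZMod q) (Module.End A T) := Module.Finite.of_finite
    rw [Module.natCard_eq_pow_finrank (K := ZMod q) (V := Module.End A T), Nat.card_zmod, ← hf] at hDT
    calc 2 ^ e ≤ 2 ^ (s * (μ * f)) := Nat.pow_le_pow_right two_pos hes
      _ ≤ q ^ (s * (μ * f)) := Nat.pow_le_pow_left (Fact.out : q.Prime).two_le _
      _ = (q ^ f) ^ (s * μ) := by rw [← pow_mul]; ring_nf
      _ ≤ Nat.card T ^ (s * μ) := Nat.pow_le_pow_left hDT _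
      _ ≤ _ := hV
  · calc Nat.card C₀ ^ e ≤ ((Nat.card T ^ s) ^ 3) ^ e := Nat.pow_le_pow_left hC _
      _ = Nat.card T ^ (3 * s * e) := by rw [← pow_mul, ← pow_mul]; ring_nf
      _ ≤ Nat.card T ^ (s * μ * (3 * Nat.card (ConjClasses C₀))) := by
          refine Nat.pow_le_pow_right (by omega) ?_
          calc 3 * s * e ≤ 3 * s * (s * (μ * f)) := Nat.mul_le_mul_left _ hes
            _ = s * μ * (3 * (s * f)) := by ring
            _ ≤ _ := Nat.mul_le_mul_left _ (Nat.mul_le_mul_left _ hk)
      _ = (Nat.card T ^ (s * μ)) ^ (3 * Nat.card (ConjClasses C₀)) := by rw [pow_mul]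
      _ ≤ _ := Nat.pow_le_pow_left hV _

end Key

end Cfsg.Agent.ClassNumber.FittingPrime
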