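import Mathlib
import Cfsg.Agent.Lib.ClassNumber.FittingPrime.Module
import Cfsg.Agent.Lib.ClassNumber.Main

/-!
# The class number and a prime dividing the index of the Fitting subgroup
-/

set_option autoImplicit false
set_option linter.style.haveILetI false

namespace Cfsg.Agent.ClassNumber.FittingPrime

open Real Subgroup

universe u

theorem arith {p e k k0 C N : ℕ} (hp : 7 ≤ p) (he : 0 < e) (hep : e ≤ p) (hk0 : 0 < k0) (hC : 0 < C)
    (hA : p * k0 ≤ e * k) (hB : N ≤ k * (e * p * C)) (hN : 2 ^ e ≤ N) (hD : C ^ e ≤ N ^ (3 * k0)) :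
    (p : ℝ) / (3 * logb 2 p) ≤ k := by
  have hp1 : (1 : ℝ) < p := by exact_mod_cast (show 1 < p by omega)
  set L := logb 2 (p : ℝ) with hL
  have hL0 : 0 < L := logb_pos one_lt_two hp1
  rw [div_le_iff₀ (by positivity)]
  by_cases hcase : (e : ℝ) ≤ 3 * L * k0
  · have h1 : (p : ℝ) * k0 ≤ e * k := by exact_mod_cast hA
    have h2 : (p : ℝ) * k0 ≤ (k * (3 * L)) * k0 := by nlinarith [Nat.cast_nonneg (α := ℝ) k]
    exact le_of_mul_le_mul_right h2 (by exact_mod_cast hk0)
  push Not at hcase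
  have hN0 : 0 < N := lt_of_lt_of_le (pow_pos two_pos e) hN
  have hk : 0 < k := by
    rcases Nat.eq_zero_or_pos k with rfl | h
    · simp at hB; omega
    · exact h
  -- the binary logarithms
  set n := logb 2 (N : ℝ) with hn
  set c := logb 2 (C : ℝ) with hc
  have hne : (e : ℝ) ≤ n := by
    rw [hn, le_logb_iff_rpow_le one_lt_two (by exact_mod_cast hN0), rpow_natCast]
    exact_mod_cast hN
  have hce : (e : ℝ) * c ≤ 3 * k0 * n := by
    have h : logb 2 ((C : ℝ) ^ e) ≤ logb 2 ((N : ℝ) ^ (3 * k0)) :=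
      logb_le_logb_of_le one_lt_two (by positivity) (by exact_mod_cast hD)
    rwa [logb_pow, logb_pow, Nat.cast_mul, Nat.cast_ofNat] at h
  have hn0 : 0 ≤ n := le_trans (Nat.cast_nonneg e) hne
  have he0 : (0 : ℝ) < e := by exact_mod_cast he
  have hLc : L * c ≤ n := by
    have h1 : (e : ℝ) * (L * c) ≤ e * n :=
      calc (e : ℝ) * (L * c) = L * (e * c) := by ring
        _ ≤ L * (3 * k0 * n) := mul_le_mul_of_nonneg_left hce hL0.le
        _ = (3 * L * k0) * n := by ring
        _ ≤ e * n := mul_le_mul_of_nonneg_right hcase.le hn0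
    exact le_of_mul_le_mul_left h1 he0
  have hn3 : 3 * L ≤ n := by
    have : (1 : ℝ) ≤ k0 := by exact_mod_cast hk0
    nlinarith
  have hL83 : (8 : ℝ) / 3 ≤ L := by
    rw [hL, le_logb_iff_rpow_le one_lt_two (by linarith)]
    have h7 : ((2 : ℝ) ^ ((8 : ℝ) / 3)) ^ (3 : ℕ) ≤ (p : ℝ) ^ (3 : ℕ) := by
      rw [← rpow_natCast ((2 : ℝ) ^ ((8 : ℝ) / 3)) 3, ← rpow_mul two_pos.le]
      norm_num
      have : (7 : ℝ) ≤ p := by exact_mod_cast hp
      nlinarith [mul_le_mul this this (by norm_num) (by linarith)]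
    exact le_of_pow_le_pow_left₀ three_ne_zero (by linarith) h7
  have hle : n ≤ logb 2 (k : ℝ) + L + L + c := by
    have hk' : (0 : ℝ) < k := by exact_mod_cast hk
    have hC' : (0 : ℝ) < C := by exact_mod_cast hC
    have hp' : (0 : ℝ) < p := by linarith
    have h : (N : ℝ) ≤ k * p * p * C := by
      have : N ≤ k * p * p * C := hB.trans (by
        calc k * (e * p * C) ≤ k * (p * p * C) := by gcongr
          _ = k * p * p * C := by ring)
      exact_mod_cast this
    calc n ≤ logb 2 ((k : ℝ) * p * p * C) := logb_le_logb_of_le one_lt_two (by exact_mod_cast hN0) h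
      _ = _ := by rw [logb_mul (by positivity) hC'.ne', logb_mul (by positivity) hp'.ne',
            logb_mul hk'.ne' hp'.ne', hL]
  -- hence `p` is at most eight times `k`
  have hkL : L ≤ logb 2 (k : ℝ) + 3 := by
    have h1 : (L - 1) * n ≤ L * (logb 2 (k : ℝ) + L + L) := by nlinarith
    have h2 : (L - 1) * (3 * L) ≤ L * (logb 2 (k : ℝ) + L + L) :=
      le_trans (mul_le_mul_of_nonneg_left hn3 (by linarith)) h1
    have h3 : 3 * (L - 1) ≤ logb 2 (k : ℝ) + L + L := by nlinarith
    linarith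
  have h8 : (p : ℝ) ≤ 8 * k := by
    have hk' : (0 : ℝ) < k := by exact_mod_cast hk
    have : logb 2 (p : ℝ) ≤ logb 2 (8 * (k : ℝ)) := by
      rw [logb_mul (by norm_num) hk'.ne', show (8 : ℝ) = 2 ^ (3 : ℕ) by norm_num, logb_pow,
        logb_self_eq_one one_lt_two]
      push_cast
      rw [← hL]
      linarith
    exact (logb_le_logb one_lt_two (by linarith) (by positivity)).1 this
  nlinarith [Nat.cast_nonneg (α := ℝ) k]

/-- classes of a subgroup -/
theorem card_conjClasses_le_index_mul {G : Type*} [Group G] [Finite G] (C : Subgroup G) :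
    Nat.card (ConjClasses C) ≤ C.index * Nat.card (ConjClasses G) := by
  classical
  let f : ConjClasses C → ConjClasses G := ConjClasses.map C.subtype
  have h := ncard_le_mul f Set.univ (Set.toFinite _) C.index fun a _ => by
    induction a using Quotient.inductionOn with
    | h a =>
      have hsub : {b ∈ (Set.univ : Set (ConjClasses C)) | f b = f (ConjClasses.mk a)} ⊆
          Set.range (fun u : {u : G ⧸ C // u.out⁻¹ * (a : G) * u.out ∈ C} =>
            ConjClasses.mk (⟨(u : G ⧸ C).out⁻¹ * (a : G) * (u : G ⧸ C).out, u.2⟩ : C)) := by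
        rintro b ⟨-, hb⟩
        induction b using Quotient.inductionOn with
        | h b =>
          obtain ⟨g, hg⟩ := isConj_iff.1 (ConjClasses.mk_eq_mk_iff_isConj.1 hb)
          change g * (b : G) * g⁻¹ = (a : G) at hg
          obtain ⟨c, hc⟩ := QuotientGroup.mk_out_eq_mul C g
          have e1 : (g : G ⧸ C).out⁻¹ * (a : G) * (g : G ⧸ C).out = (c : G)⁻¹ * b * c := by
            rw [hc, ← hg]; group
          refine ⟨⟨(g : G ⧸ C), by rw [e1]; exact C.mul_mem (C.mul_mem (C.inv_mem c.2) b.2) c.2⟩, ?_⟩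
          exact ConjClasses.mk_eq_mk_iff_isConj.2 (isConj_iff.2 ⟨c, Subtype.ext (by
            show (c : G) * ((g : G ⧸ C).out⁻¹ * (a : G) * (g : G ⧸ C).out) * (c : G)⁻¹ = b
            rw [e1]; group)⟩)
      refine (Set.ncard_le_ncard hsub (Set.toFinite _)).trans ?_
      rw [← Set.image_univ]
      refine (Set.ncard_image_le (Set.toFinite _)).trans ?_
      rw [Set.ncard_univ, Subgroup.index]
      exact Nat.card_le_card_of_injective _ Subtype.val_injective
  rw [Set.ncard_univ, mul_comm] at h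
  exact h.trans (Nat.mul_le_mul_left _ (Set.ncard_le_card _))

/-- the shape of the centralizer of a normal subgroup of prime order -/
theorem exists_setup {H : Type*} [Group H] [Finite H] {p : ℕ} [hp : Fact p.Prime] (x : H)
    (hx : orderOf x = p) (hn : (zpowers x).Normal) (hp2 : ¬ p ^ 2 ∣ Nat.card H) :
    ∃ (h : H) (r : ℕ) (C₀ : Subgroup H), C₀.Normal ∧ 0 < orderOf (r : ZMod p) ∧ orderOf (r : ZMod p) ≤ p ∧
      (∀ c ∈ C₀, x * c = c * x) ∧ h * x * h⁻¹ = x ^ r ∧
      (∀ g : H, ∃ i j : ℕ, ∃ c ∈ C₀, g = h ^ i * x ^ j * c) ∧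
      Nat.card H = orderOf (r : ZMod p) * p * Nat.card C₀ ∧
      p * Nat.card (ConjClasses C₀) ≤ orderOf (r : ZMod p) * Nat.card (ConjClasses H) := by
  classical
  haveI := hn
  set P := zpowers x with hP
  have hPc : Nat.card P = p := by rw [hP, Nat.card_zpowers, hx]
  haveI : IsCyclic P := isCyclic_of_prime_card hPc
  let φ : H →* MulAut P := MulAut.conjNormal
  set C := φ.ker with hC
  have hCx : ∀ g, g ∈ C ↔ g * x * g⁻¹ = x := by
    intro g
    rw [hC, MonoidHom.mem_ker]
    constructor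
    · intro hg
      exact congrArg (fun a : MulAut P => ((a ⟨x, mem_zpowers x⟩ : P) : H)) hg
    · intro hg
      refine MulEquiv.ext fun y => Subtype.ext ?_
      obtain ⟨i, hi⟩ := mem_zpowers_iff.1 y.2
      show g * (y : H) * g⁻¹ = y
      rw [← hi, ← conj_zpow, hg]
  haveI : IsCyclic (ZMod (Nat.card P))ˣ := by rw [hPc]; infer_instance
  haveI : IsCyclic (MulAut P) := isCyclic_of_surjective _ (IsCyclic.mulAutMulEquiv P).symm.surjective
  obtain ⟨⟨_, h, rfl⟩, hgenh⟩ := IsCyclic.exists_generator (α := φ.range)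
  obtain ⟨r, hr⟩ : ∃ r : ℕ, x ^ r = h * x * h⁻¹ := by
    have : h * x * h⁻¹ ∈ zpowers x := hn.conj_mem x (mem_zpowers x) h
    rw [mem_zpowers_iff_mem_range_orderOf] at this
    obtain ⟨r, -, hr⟩ := Finset.mem_image.1 this
    exact ⟨r, hr⟩
  have hpow : ∀ n : ℕ, h ^ n * x * (h ^ n)⁻¹ = x ^ r ^ n := by
    intro n
    induction n with
    | zero => simp
    | succ n ih =>
      rw [pow_succ', mul_inv_rev, pow_succ, mul_comm (r ^ n) r, pow_mul, hr, conj_pow, ← ih]
      group
  have hord : orderOf (φ h) = orderOf (r : ZMod p) := orderOf_eq_orderOf_iff.2 fun n => by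
    rw [← map_pow, ← MonoidHom.mem_ker, ← hC, hCx, hpow, ← Nat.cast_pow, ← Nat.cast_one,
      ZMod.natCast_eq_natCast_iff, ← hx, ← pow_eq_pow_iff_modEq, pow_one]
  have hrange : ∀ g : H, ∃ i : ℕ, φ g = φ h ^ i := fun g => by
    obtain ⟨i, hi⟩ := (mem_powers_iff_mem_zpowers).2 (hgenh ⟨φ g, g, rfl⟩)
    exact ⟨i, congrArg Subtype.val hi.symm⟩
  have hindex : C.index = orderOf (r : ZMod p) := by
    rw [hC, Subgroup.index_ker, ← hord, ← orderOf_mk (φ h) (MonoidHom.mem_range.2 ⟨h, rfl⟩)]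
    exact (orderOf_eq_card_of_forall_mem_zpowers hgenh).symm
  have hep : orderOf (r : ZMod p) ≤ p := by
    rw [← hord]
    refine (_root_.orderOf_le_card (G := MulAut P)).trans ?_
    rw [IsCyclic.card_mulAut, hPc]
    exact Nat.totient_le p
  have hxC : x ∈ C := (hCx x).2 (by group)
  have hPC : P ≤ C := (zpowers_le).2 hxC
  haveI : (P.subgroupOf C).Normal := hn.subgroupOf C
  have hPCcard : Nat.card (P.subgroupOf C) = p := by
    rw [Nat.card_congr (subgroupOfEquivOfLe hPC).toEquiv, hPc]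
  have hcop : (Nat.card (P.subgroupOf C)).Coprime (P.subgroupOf C).index := by
    rw [hPCcard, hp.out.coprime_iff_not_dvd]
    intro hd
    refine hp2 ?_
    rw [sq]
    refine dvd_trans ?_ (Subgroup.card_subgroup_dvd_card C)
    rw [← Subgroup.card_mul_index (P.subgroupOf C), hPCcard]
    exact Nat.mul_dvd_mul_left p hd
  obtain ⟨K, hK⟩ := exists_right_complement'_of_coprime hcop
  set C₀ := K.map C.subtype with hC₀
  have hC₀C : C₀ ≤ C := map_subtype_le K
  have hcard₀ : Nat.card C₀ = Nat.card K := card_map_of_injective C.subtype_injective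
  have hCcard : Nat.card C = p * Nat.card C₀ := by rw [hcard₀, ← hPCcard]; exact hK.card_mul.symm
  have hp0 : ¬ p ∣ Nat.card C₀ := fun hd => hp2 (by
    rw [sq]
    exact ((Nat.mul_dvd_mul_left p hd).trans hCcard.symm.dvd).trans (Subgroup.card_subgroup_dvd_card C))
  have hxc : ∀ c ∈ C, x * c = c * x := fun c hc => (mul_inv_eq_iff_eq_mul.1 ((hCx c).1 hc)).symm
  have hsplit : ∀ c ∈ C, ∃ j : ℕ, ∃ d ∈ C₀, c = x ^ j * d := by
    intro c hc
    obtain ⟨⟨⟨a, ha⟩, ⟨b, hb⟩⟩, hab, -⟩ := hK.existsUnique (⟨c, hc⟩ : C)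
    have ha' : (a : H) ∈ zpowers x := mem_subgroupOf.1 ha
    obtain ⟨j, hj⟩ := (mem_powers_iff_mem_zpowers).2 ha'
    exact ⟨j, b, ⟨b, hb, rfl⟩, (congrArg Subtype.val hab).symm.trans (by rw [Subgroup.coe_mul]; exact congrArg (· * (b : H)) hj.symm)⟩
  have hdisj : ∀ j : ℕ, x ^ j ∈ C₀ → x ^ j = 1 := by
    intro j hj
    have h1 : orderOf (x ^ j) ∣ Nat.card C₀ := Subgroup.orderOf_dvd_natCard C₀ hj
    have h2 : orderOf (x ^ j) ∣ p := by rw [← hx]; exact orderOf_pow_dvd j
    exact orderOf_eq_one_iff.1 (Nat.eq_one_of_dvd_coprimes (hp.out.coprime_iff_not_dvd.2 hp0) h2 h1)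
  haveI : C.Normal := MonoidHom.normal_ker φ
  haveI hC₀n : C₀.Normal := ⟨fun d hd g => by
    obtain ⟨j, d', hd', he⟩ := hsplit _ ((inferInstance : C.Normal).conj_mem d (hC₀C hd) g)
    have h1 : (g * d * g⁻¹) ^ Nat.card C₀ = 1 := by
      have : d ^ Nat.card C₀ = 1 := congrArg Subtype.val (pow_card_eq_one' (x := (⟨d, hd⟩ : C₀)))
      rw [conj_pow, this, mul_one, mul_inv_cancel]
    have hd'1 : d' ^ Nat.card C₀ = 1 := congrArg Subtype.val (pow_card_eq_one' (x := (⟨d', hd'⟩ : C₀)))
    have hcm : Commute (x ^ j) d' := Commute.pow_left (hxc d' (hC₀C hd')) j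
    rw [he, hcm.mul_pow, hd'1, mul_one] at h1
    have h2 : (x ^ j) ^ p = 1 := by rw [← pow_mul, mul_comm, pow_mul, ← hx, pow_orderOf_eq_one, one_pow]
    have h3 : x ^ j = 1 := orderOf_eq_one_iff.1 (Nat.eq_one_of_dvd_coprimes
      (hp.out.coprime_iff_not_dvd.2 hp0) (orderOf_dvd_of_pow_eq_one h2) (orderOf_dvd_of_pow_eq_one h1))
    rw [he, h3, one_mul]
    exact hd'⟩
  have he0 : 0 < orderOf (r : ZMod p) := by rw [← hindex]; exact Nat.pos_of_ne_zero index_ne_zero_of_finite
  refine ⟨h, r, C₀, hC₀n, he0, hep, fun c hc => hxc c (hC₀C hc), hr.symm, fun g => ?_, ?_, ?_⟩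
  · obtain ⟨i, hi⟩ := hrange g
    have hgC : (h ^ i)⁻¹ * g ∈ C := by
      rw [hC, MonoidHom.mem_ker, map_mul, map_inv, map_pow, hi, inv_mul_cancel]
    obtain ⟨j, d, hd, he⟩ := hsplit _ hgC
    exact ⟨i, j, d, hd, by rw [mul_assoc, ← he, mul_inv_cancel_left]⟩
  · rw [← hindex, mul_assoc, ← hCcard]
    exact (C.index_mul_card).symm
  · rw [← hindex]
    refine le_trans ?_ (card_conjClasses_le_index_mul C)
    let F : Fin p → ConjClasses C₀ → ConjClasses C := fun j =>
      Quotient.lift (fun d : C₀ => ConjClasses.mk (⟨x ^ (j : ℕ) * d, C.mul_mem (C.pow_mem hxC _) (hC₀C d.2)⟩ : C))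
        fun d d' (hdd : IsConj d d') => by
          obtain ⟨u, hu⟩ := isConj_iff.1 hdd
          refine ConjClasses.mk_eq_mk_iff_isConj.2 (isConj_iff.2 ⟨⟨u, hC₀C u.2⟩, Subtype.ext ?_⟩)
          have hu' : (u : H) * d * (u : H)⁻¹ = d' := congrArg Subtype.val hu
          have hcm : Commute (x ^ (j : ℕ)) (u : H) := Commute.pow_left (hxc u (hC₀C u.2)) _
          show (u : H) * (x ^ (j : ℕ) * d) * (u : H)⁻¹ = x ^ (j : ℕ) * d'
          rw [← hu', ← mul_assoc (u : H), ← hcm.eq]
          group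
    have hinj : Function.Injective fun a : Fin p × ConjClasses C₀ => F a.1 a.2 := by
      rintro ⟨j, a⟩ ⟨j', a'⟩ haa
      induction a using Quotient.inductionOn with
      | h a => induction a' using Quotient.inductionOn with
        | h a' =>
          obtain ⟨⟨g, hg⟩, hge⟩ := isConj_iff.1 (ConjClasses.mk_eq_mk_iff_isConj.1 haa)
          replace hge : g * (x ^ (j : ℕ) * a) * g⁻¹ = x ^ (j' : ℕ) * a' := congrArg Subtype.val hge
          obtain ⟨i, u, hu, rfl⟩ := hsplit g hg
          have h1 : x ^ (j : ℕ) * (u * a * u⁻¹) = x ^ (j' : ℕ) * a' := by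
            rw [← hge]
            have c1 : Commute (x ^ i) (x ^ (j : ℕ)) := (Commute.refl x).pow_pow _ _
            have c2 : Commute (x ^ (j : ℕ)) u := Commute.pow_left (hxc u (hC₀C hu)) _
            have c3 : Commute (x ^ i) (u * a * u⁻¹) := Commute.pow_left
              (hxc _ (C.mul_mem (C.mul_mem (hC₀C hu) (hC₀C a.2)) (C.inv_mem (hC₀C hu)))) _
            calc x ^ (j : ℕ) * (u * a * u⁻¹) = x ^ (j : ℕ) * (x ^ i * (u * a * u⁻¹) * (x ^ i)⁻¹) := by
                  rw [c3.mul_inv_cancel]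
              _ = (x ^ (j : ℕ) * x ^ i) * (u * a * u⁻¹) * (x ^ i)⁻¹ := by group
              _ = x ^ i * (x ^ (j : ℕ) * u) * a * u⁻¹ * (x ^ i)⁻¹ := by rw [← c1.eq]; group
              _ = _ := by rw [c2.eq]; group
          have hua : u * a * u⁻¹ ∈ C₀ := C₀.mul_mem (C₀.mul_mem hu a.2) (C₀.inv_mem hu)
          have h2 : j = j' := by
            rcases le_total (j : ℕ) j' with hle | hle
            · have h3 : x ^ ((j' : ℕ) - j) = u * a * u⁻¹ * (a' : H)⁻¹ := by
                have e : x ^ (j : ℕ) * x ^ ((j' : ℕ) - j) = x ^ (j : ℕ) * (u * a * u⁻¹ * (a' : H)⁻¹) := by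
                  rw [← pow_add, Nat.add_sub_cancel' hle, ← mul_assoc, h1, mul_inv_cancel_right]
                exact mul_left_cancel e
              have h4 := hdisj _ (h3 ▸ C₀.mul_mem hua (C₀.inv_mem a'.2))
              have := Nat.le_of_dvd (m := orderOf x) (n := (j' : ℕ) - j)
              rw [← orderOf_dvd_iff_pow_eq_one, hx] at h4
              have := j'.isLt
              exact Fin.ext (by rcases Nat.eq_zero_or_pos ((j' : ℕ) - j) with h0 | h0
                                · omega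
                                · have := Nat.le_of_dvd h0 h4; omega)
            · have h3 : x ^ ((j : ℕ) - j') = (a' : H) * (u * a * u⁻¹)⁻¹ := by
                have e : x ^ (j' : ℕ) * x ^ ((j : ℕ) - j') = x ^ (j' : ℕ) * ((a' : H) * (u * a * u⁻¹)⁻¹) := by
                  rw [← pow_add, Nat.add_sub_cancel' hle, ← mul_assoc, ← h1, mul_inv_cancel_right]
                exact mul_left_cancel e
              have h4 := hdisj _ (h3 ▸ C₀.mul_mem a'.2 (C₀.inv_mem hua))
              rw [← orderOf_dvd_iff_pow_eq_one, hx] at h4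
              have := j.isLt
              exact Fin.ext (by rcases Nat.eq_zero_or_pos ((j : ℕ) - j') with h0 | h0
                                · omega
                                · have := Nat.le_of_dvd h0 h4; omega)
          subst h2
          refine Prod.ext rfl (Quotient.sound (isConj_iff.2 ⟨⟨u, hu⟩, Subtype.ext ?_⟩))
          exact mul_left_cancel h1
    have := Nat.card_le_card_of_injective _ hinj
    rwa [Nat.card_prod, Nat.card_fin] at this

/-- the representation of an action on an elementary abelian group -/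
def repOf {q : ℕ} {H A : Type*} [Group H] [CommGroup A] [Module (ZMod q) (Additive A)] (φ : H →* MulAut A) :
    Representation (ZMod q) H (Additive A) where
  toFun g := (φ g).toMonoidHom.toAdditive.toZModLinearMap q
  map_one' := LinearMap.ext fun v => Additive.toMul.injective (by
    show φ 1 (Additive.toMul v) = Additive.toMul v
    rw [map_one]; rfl)
  map_mul' g h := LinearMap.ext fun v => Additive.toMul.injective (by
    show φ (g * h) (Additive.toMul v) = φ g (φ h (Additive.toMul v))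
    rw [map_mul]; rfl)

/-- the bound from a faithful irreducible action on an elementary abelian group -/
theorem action_part {q : ℕ} [Fact q.Prime] {H A : Type*} [Group H] [Finite H] [Group.IsSolvable H] [CommGroup A]
    [Finite A] [Nontrivial A] [Module (ZMod q) (Additive A)] (φ : H →* MulAut A) (hinjφ : Function.Injective φ)
    (hirrφ : ∀ U : Subgroup A, (∀ g, ∀ u ∈ U, φ g u ∈ U) → U = ⊥ ∨ U = ⊤)
    {p : ℕ} [Fact p.Prime] (h7 : 7 ≤ p) (xH : H) (hxo : orderOf xH = p) (hzn : (zpowers xH).Normal)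
    (hp2 : ¬ p ^ 2 ∣ Nat.card H) (hfix : ∀ v, φ xH v = v → v = 1) (k : ℕ)
    (hkH : Nat.card (ConjClasses H) ≤ k) (hkN : Nat.card A ≤ k * Nat.card H) :
    (p : ℝ) / (3 * logb 2 p) ≤ k := by
  obtain ⟨h, r, C₀, hC₀n, he0, hep, hxc₀, hconj, hgen, hcardH, hclH⟩ := exists_setup xH hxo hzn hp2
  set ρ : Representation (ZMod q) H (Additive A) := repOf φ with hρdef
  have hρ : ∀ (g : H) (v : Additive A), Additive.toMul (ρ g v) = φ g (Additive.toMul v) := fun _ _ => rfl
  have hinj : Function.Injective ρ := fun g g' hgg => hinjφ (MulEquiv.ext fun a => by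
    have := congrArg (fun f : Module.End (ZMod q) (Additive A) => Additive.toMul (f (Additive.ofMul a))) hgg
    exact this)
  have hirr : ∀ U : Submodule (ZMod q) (Additive A), (∀ g, ∀ v ∈ U, ρ g v ∈ U) → U = ⊥ ∨ U = ⊤ := by
    intro U hU
    rcases hirrφ U.toAddSubgroup.toSubgroup' (fun g u hu => hU g (Additive.ofMul u) hu) with h | h
    · refine Or.inl ((Submodule.eq_bot_iff U).2 fun v hv => ?_)
      have h1 : Additive.toMul v ∈ (⊥ : Subgroup A) := h ▸ hv
      exact Additive.toMul.injective (Subgroup.mem_bot.1 h1)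
    · refine Or.inr ((Submodule.eq_top_iff').2 fun v => ?_)
      have h1 : Additive.toMul v ∈ U.toAddSubgroup.toSubgroup' := by rw [h]; exact Subgroup.mem_top _
      exact h1
  let R := Algebra.adjoin (ZMod q) (Set.range fun c : C₀ => ρ (c : H))
  let σ : C₀ →* R := (ρ.comp C₀.subtype).codRestrict R.toSubmonoid fun c => Algebra.subset_adjoin ⟨c, rfl⟩
  have hspan : Submodule.span (ZMod q) (Set.range σ) = ⊤ := by
    refine Submodule.map_injective_of_injective (f := R.val.toLinearMap) Subtype.val_injective ?_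
    rw [Submodule.map_span, ← Set.range_comp, Submodule.map_top]
    have e1 : LinearMap.range R.val.toLinearMap = Subalgebra.toSubmodule R := by
      ext z
      exact ⟨fun ⟨w, hw⟩ => hw ▸ w.2, fun hz => ⟨⟨z, hz⟩, rfl⟩⟩
    rw [e1, Algebra.adjoin_eq_span]
    congr 1
    have e2 : Submonoid.closure (Set.range fun c : C₀ => ρ (c : H)) =
        MonoidHom.mrange (ρ.comp C₀.subtype) := by
      have e3 : (Set.range fun c : C₀ => ρ (c : H)) = (MonoidHom.mrange (ρ.comp C₀.subtype) : Set _) := rfl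
      rw [e3, Submonoid.closure_eq]
    rw [e2]
    rfl
  obtain ⟨h2e, hCe⟩ := key (q := q) (A := R) ρ hinj hirr C₀ σ (fun _ _ => rfl) hspan xH h r he0
    (by rw [← hxo, pow_orderOf_eq_one])
    (fun v hv => Additive.toMul.injective (hfix _ (by rw [← hρ, hv])))
    hxc₀ hconj hgen
  rw [Nat.card_congr Additive.toMul] at h2e hCe
  refine arith h7 he0 hep (Nat.card_pos (α := ConjClasses C₀)) (Nat.card_pos (α := C₀)) ?_ ?_ h2e hCe
  · exact hclH.trans (Nat.mul_le_mul_left _ hkH)
  · rw [← hcardH]; exact hkN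

/-- the class number bound for a prime dividing the order exactly once -/
theorem bound_once : ∀ (n : ℕ) (G : Type u) [Group G] [Finite G], Group.IsSolvable G → Nat.card G = n →
    ∀ (p : ℕ) [Fact p.Prime], 7 ≤ p → ¬ p ^ 2 ∣ Nat.card G → ∀ x : G, orderOf x = p →
      ¬ (zpowers x).Normal → (p : ℝ) / (3 * logb 2 p) ≤ Nat.card (ConjClasses G) := by
  intro n
  induction n using Nat.strong_induction_on with
  | h n ih => ?_
  intro G _ _ hsol hn p hpF h7 hp2 x hx hnn
  haveI := hsol
  have hp := hpF.out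
  have hxc : Nat.card (zpowers x) = p := by rw [Nat.card_zpowers, hx]
  have hpG : p ∣ Nat.card G := hx ▸ orderOf_dvd_natCard x
  haveI : Nontrivial G := Finite.one_lt_card_iff_nontrivial.1
    (lt_of_lt_of_le hp.one_lt (Nat.le_of_dvd Nat.card_pos hpG))
  -- minimal normal subgroups
  have hmin : ∀ T : Subgroup G, T.Normal → T ≠ ⊥ →
      (∀ K : Subgroup G, K.Normal → K ≤ T → K = ⊥ ∨ K = T) → ¬ p ∣ Nat.card T := by
    intro T hT hT1 hTm hd
    haveI := hT
    obtain ⟨q, hq, -, hqg, -, -⟩ := Hall.minimal_normal_isElementaryAbelian hT1 hTm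
    haveI := Fact.mk hq
    obtain ⟨j, hj⟩ := IsPGroup.iff_card.1 hqg
    obtain rfl : p = q := (Nat.prime_dvd_prime_iff_eq hp hq).1 (hp.dvd_of_dvd_pow (hj ▸ hd))
    have hj1 : j ≤ 1 := by
      by_contra hlt
      exact hp2 ((pow_dvd_pow p (show 2 ≤ j by omega)).trans (hj ▸ Subgroup.card_subgroup_dvd_card T))
    refine hnn ?_
    have hTx : T ≤ zpowers x := by
      by_contra hle
      have h1 : T ⊓ zpowers x = ⊥ := by
        refine Subgroup.eq_bot_of_card_le _ ?_
        by_contra hlt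
        have h2 : Nat.card (T ⊓ zpowers x : Subgroup G) ∣ p := hxc ▸ card_dvd_of_le inf_le_right
        rcases (Nat.dvd_prime hp).1 h2 with h3 | h3
        · omega
        · refine hle ?_
          have h4 : T ⊓ zpowers x = T := Subgroup.eq_of_le_of_card_ge inf_le_left (by
            rw [h3, hj]; exact (Nat.pow_le_pow_right hp.pos hj1).trans (pow_one p).le)
          exact h4 ▸ inf_le_right
      have hsg : IsPGroup p (T ⊔ zpowers x : Subgroup G) :=
        hqg.to_sup_of_normal_left (IsPGroup.of_card (n := 1) (by rw [hxc, pow_one]))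
      obtain ⟨k, hk⟩ := IsPGroup.iff_card.1 hsg
      refine hle ?_
      have hk1 : k ≤ 1 := by
        by_contra hlt
        exact hp2 ((pow_dvd_pow p (show 2 ≤ k by omega)).trans (hk ▸ Subgroup.card_subgroup_dvd_card _))
      exact le_sup_left.trans (Subgroup.eq_of_le_of_card_ge le_sup_right
        (by rw [hk, hxc]; exact (Nat.pow_le_pow_right hp.pos hk1).trans (pow_one p).le)).ge
    have : T = zpowers x := Subgroup.eq_of_le_of_card_ge hTx (by
      rw [hxc, hj]
      exact Nat.le_self_pow (fun h0 => hT1 (Subgroup.card_eq_one.1 (by rw [hj, h0, pow_zero]))) p)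
    exact this ▸ hT
  by_cases hquo : ∃ T : Subgroup G, ∃ _ : T.Normal, T ≠ ⊥ ∧ ¬ p ∣ Nat.card T ∧ ¬ (T ⊔ zpowers x).Normal
  · obtain ⟨T, hT, hT1, hpT, hnT⟩ := hquo
    have hxT : orderOf (x : G ⧸ T) = p := by
      refine orderOf_eq_prime ?_ ?_
      · rw [← QuotientGroup.mk_pow, ← hx, pow_orderOf_eq_one, QuotientGroup.mk_one]
      · rw [Ne, QuotientGroup.eq_one_iff]
        exact fun hxm => hpT (hx ▸ Subgroup.orderOf_dvd_natCard T hxm)
    have hlt : Nat.card (G ⧸ T) < n := by
      rw [← hn, Subgroup.card_eq_card_quotient_mul_card_subgroup T]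
      exact lt_mul_right Nat.card_pos ((Subgroup.one_lt_card_iff_ne_bot T).2 hT1)
    have h2 : ¬ p ^ 2 ∣ Nat.card (G ⧸ T) := fun hd => hp2 (hd.trans (Subgroup.card_quotient_dvd_card T))
    have hnn' : ¬ (zpowers (x : G ⧸ T)).Normal := fun hcl => hnT (by
      have e : (zpowers (x : G ⧸ T)).comap (QuotientGroup.mk' T) = T ⊔ zpowers x := by
        have e1 : zpowers (x : G ⧸ T) = (zpowers x).map (QuotientGroup.mk' T) := by
          rw [MonoidHom.map_zpowers]; rfl
        rw [e1, Subgroup.comap_map_eq, QuotientGroup.ker_mk', sup_comm]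
      exact e ▸ hcl.comap _)
    exact (ih _ hlt (G ⧸ T) inferInstance rfl p h7 h2 _ hxT hnn').trans
      (by exact_mod_cast card_conjClasses_le_of_surjective _ (QuotientGroup.mk'_surjective T))
  push Not at hquo
  obtain ⟨N, -, ⟨hNn, hN1⟩, hNmin⟩ := exists_minimal_le_of_wellFoundedLT
    (fun M : Subgroup G => M.Normal ∧ M ≠ ⊥) ⊤ ⟨inferInstance, top_ne_bot⟩
  haveI := hNn
  have hminN : ∀ K : Subgroup G, K.Normal → K ≤ N → K = ⊥ ∨ K = N := fun K hK hKN => by
    by_cases h : K = ⊥
    · exact Or.inl h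
    · exact Or.inr (le_antisymm hKN (hNmin ⟨hK, h⟩ hKN))
  have hpN : ¬ p ∣ Nat.card N := hmin N hNn hN1 hminN
  obtain ⟨q, hq, -, hqg, hNc, hNe⟩ := Hall.minimal_normal_isElementaryAbelian hN1 hminN
  haveI := Fact.mk hq
  have hNc' : ∀ a ∈ N, ∀ b ∈ N, a * b = b * a := fun a ha b hb =>
    congrArg Subtype.val (hNc.is_comm.comm ⟨a, ha⟩ ⟨b, hb⟩)
  set H := normalizer (zpowers x : Set G) with hH
  have hxH : x ∈ H := le_normalizer (mem_zpowers x)
  haveI hMn : (N ⊔ zpowers x).Normal := hquo N hNn hN1 hpN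
  have hHN : H ⊔ N = ⊤ := by
    set M := N ⊔ zpowers x with hM
    have hfac : (Nat.card M).factorization p = 1 := by
      have h1 : p ∣ Nat.card M := hxc ▸ card_dvd_of_le le_sup_right
      have h2 : ¬ p ^ 2 ∣ Nat.card M := fun h => hp2 (h.trans (Subgroup.card_subgroup_dvd_card M))
      have h3 := (hp.pow_dvd_iff_le_factorization (Nat.card_pos (α := M)).ne').not.1 h2
      have h4 := hp.factorization_pos_of_dvd (Nat.card_pos (α := M)).ne' h1
      omega
    let P' : Sylow p M := Sylow.ofCard ((zpowers x).subgroupOf M) (by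
      rw [hfac, pow_one, Nat.card_congr (subgroupOfEquivOfLe le_sup_right).toEquiv, hxc])
    have h5 := Sylow.normalizer_sup_eq_top P'
    have e : Subgroup.map M.subtype (P' : Subgroup M) = zpowers x := by
      show Subgroup.map M.subtype ((zpowers x).subgroupOf M) = zpowers x
      rw [subgroupOf_map_subtype, inf_eq_left.2 le_sup_right]
    rw [e, ← hH, hM] at h5
    rw [eq_top_iff, ← h5]
    exact sup_le le_sup_left (sup_le le_sup_right ((zpowers_le.2 hxH).trans le_sup_left))
  have hdecomp : ∀ g : G, ∃ a ∈ H, ∃ b ∈ N, g = a * b := fun g => by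
    have hg : g ∈ ((H ⊔ N : Subgroup G) : Set G) := by rw [hHN]; exact Subgroup.mem_top g
    rw [Subgroup.mul_normal H N] at hg
    obtain ⟨a, ha, b, hb, hab⟩ := Set.mem_mul.1 hg
    exact ⟨a, ha, b, hb, hab.symm⟩
  have hnormal : ∀ U : Subgroup G, U ≤ N → (∀ a ∈ H, ∀ u ∈ U, a * u * a⁻¹ ∈ U) → U.Normal :=
    fun U hU ha => ⟨fun u hu g => by
      obtain ⟨a, haH, b, hb, rfl⟩ := hdecomp g
      have : b * u * b⁻¹ = u := by rw [hNc' b hb u (hU hu), mul_inv_cancel_right]
      rw [show a * b * u * (a * b)⁻¹ = a * (b * u * b⁻¹) * a⁻¹ by group, this]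
      exact ha a haH u hu⟩
  have hinf : N ⊓ H = ⊥ := by
    have hU : (N ⊓ H).Normal := hnormal _ inf_le_left fun a ha u hu =>
      ⟨hNn.conj_mem u hu.1 a, H.mul_mem (H.mul_mem ha hu.2) (H.inv_mem ha)⟩
    refine (hminN _ hU inf_le_left).resolve_right fun hNH => hnn ?_
    rw [inf_eq_left] at hNH
    rw [← normalizer_eq_top_iff, ← hH, ← hHN, sup_eq_left.2 hNH]
  have hfix : ∀ v ∈ N, x * v = v * x → v = 1 := by
    intro v hv hc
    have hvH : v ∈ H := by
      refine centralizer_le_normalizer (zpowers x : Set G) (mem_centralizer_iff.2 fun y hy => ?_)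
      obtain ⟨i, rfl⟩ := mem_zpowers_iff.1 hy
      exact (Commute.zpow_left hc i).eq
    exact Subgroup.mem_bot.1 (hinf ▸ ⟨hv, hvH⟩)
  -- the module
  letI instV : CommGroup N :=
    { (inferInstance : Group N) with mul_comm := fun a b => Subtype.ext (hNc' a a.2 b b.2) }
  letI : Module (ZMod q) (Additive N) := AddCommGroup.zmodModule (fun v => by
    show Additive.ofMul ((Additive.toMul v) ^ q) = 0
    rw [show (Additive.toMul v) ^ q = 1 from Subtype.ext (hNe _ (Additive.toMul v).2)]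
    rfl)
  let φ : H →* MulAut N := (MulAut.conjNormal (H := N)).comp H.subtype
  have hφ : ∀ (g : H) (v : N), ((φ g v : N) : G) = (g : G) * v * (g : G)⁻¹ := fun _ _ => rfl
  have hirr : ∀ U : Subgroup N, (∀ g, ∀ u ∈ U, φ g u ∈ U) → U = ⊥ ∨ U = ⊤ := by
    intro U hU
    have hn' : (U.map N.subtype).Normal :=
      hnormal _ (map_subtype_le _) (by
        rintro a ha _ ⟨u, hu, rfl⟩
        exact ⟨φ ⟨a, ha⟩ u, hU ⟨a, ha⟩ u hu, rfl⟩)
    rcases hminN _ hn' (map_subtype_le _) with h | h
    · exact Or.inl ((Subgroup.map_eq_bot_iff_of_injective U N.subtype_injective).1 h)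
    · refine Or.inr ((Subgroup.eq_top_iff' U).2 fun v => ?_)
      obtain ⟨u, hu, huv⟩ : (v : G) ∈ U.map N.subtype := by rw [h]; exact v.2
      exact (Subtype.ext huv : u = v) ▸ hu
  have hinj : Function.Injective φ := by
    rw [injective_iff_map_eq_one φ]
    intro g hg
    by_contra hg1
    let K : Subgroup G := H ⊓ centralizer (N : Set G)
    have hKn : K.Normal := ⟨fun u hu g' => by
      obtain ⟨a, ha, b, hb, rfl⟩ := hdecomp g'
      have h1 : b * u * b⁻¹ = u := by rw [(mem_centralizer_iff.1 hu.2 b hb), mul_inv_cancel_right]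
      rw [show a * b * u * (a * b)⁻¹ = a * (b * u * b⁻¹) * a⁻¹ by group, h1]
      refine ⟨H.mul_mem (H.mul_mem ha hu.1) (H.inv_mem ha), ?_⟩
      exact (Subgroup.normal_centralizer (H := N)).conj_mem u hu.2 a⟩
    have hgK : (g : G) ∈ K := ⟨g.2, mem_centralizer_iff.2 fun b hb => by
      have h1 := congrArg (fun f : MulAut N => ((f (⟨b, hb⟩ : N) : N) : G)) hg
      change (g : G) * b * (g : G)⁻¹ = b at h1
      exact (mul_inv_eq_iff_eq_mul.1 h1).symm⟩
    have hK1 : K ≠ ⊥ := fun h => hg1 (Subtype.ext (Subgroup.mem_bot.1 (h ▸ hgK)))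
    obtain ⟨T, hTK, ⟨hTn, hT1⟩, hTmin⟩ := exists_minimal_le_of_wellFoundedLT
      (fun M : Subgroup G => M.Normal ∧ M ≠ ⊥) K ⟨hKn, hK1⟩
    haveI := hTn
    have hpT : ¬ p ∣ Nat.card T := hmin T hTn hT1 fun M hM hMT => by
      by_cases h : M = ⊥
      · exact Or.inl h
      · exact Or.inr (le_antisymm hMT (hTmin ⟨hM, h⟩ hMT))
    have hTx := hquo T hTn hT1 hpT
    have hTxH : T ⊔ zpowers x ≤ H := sup_le (hTK.trans inf_le_left) (zpowers_le.2 hxH)
    refine hN1 ((Subgroup.eq_bot_iff_forall _).2 fun v hv => hfix v hv ?_)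
    have hm : x * v * x⁻¹ * v⁻¹ ∈ N ⊓ H := ⟨N.mul_mem (hNn.conj_mem v hv x) (N.inv_mem hv), hTxH (by
      rw [show x * v * x⁻¹ * v⁻¹ = x * (v * x⁻¹ * v⁻¹) by group]
      exact (T ⊔ zpowers x).mul_mem (le_sup_right (a := T) (mem_zpowers x))
        (hTx.conj_mem _ ((T ⊔ zpowers x).inv_mem (le_sup_right (a := T) (mem_zpowers x))) v))⟩
    rw [hinf, Subgroup.mem_bot] at hm
    calc x * v = x * v * x⁻¹ * v⁻¹ * (v * x) := by group
      _ = v * x := by rw [hm, one_mul]
  -- the centralizer part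
  set xH : H := ⟨x, hxH⟩ with hxHdef
  have hxo : orderOf xH = p := by rw [← Subgroup.orderOf_coe, hxHdef]; exact hx
  have hzn : (zpowers xH).Normal := by
    have e : zpowers xH = (zpowers x).subgroupOf H := by
      refine le_antisymm (zpowers_le.2 (mem_zpowers x)) fun y hy => ?_
      obtain ⟨i, hi⟩ := mem_zpowers_iff.1 (mem_subgroupOf.1 hy)
      exact mem_zpowers_iff.2 ⟨i, Subtype.ext (by rw [coe_zpow]; exact hi)⟩
    rw [e]
    exact normal_in_normalizer
  haveI : Nontrivial N := (Subgroup.nontrivial_iff_ne_bot N).2 hN1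
  -- the classes
  have hbij : Function.Bijective ((QuotientGroup.mk' N).comp H.subtype) := by
    constructor
    · rw [injective_iff_map_eq_one]
      intro g hg
      exact Subtype.ext (Subgroup.mem_bot.1 (hinf ▸ ⟨(QuotientGroup.eq_one_iff _).1 hg, g.2⟩))
    · intro z
      obtain ⟨g, rfl⟩ := QuotientGroup.mk'_surjective N z
      obtain ⟨a, ha, b, hb, rfl⟩ := hdecomp g
      refine ⟨⟨a, ha⟩, ?_⟩
      show (a : G ⧸ N) = ((a * b : G) : G ⧸ N)
      rw [QuotientGroup.eq, inv_mul_cancel_left]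
      exact hb
  let eH := MulEquiv.ofBijective _ hbij
  have hkH : Nat.card (ConjClasses H) ≤ Nat.card (ConjClasses (G ⧸ N)) :=
    card_conjClasses_le_of_surjective eH.symm.toMonoidHom eH.symm.surjective
  have hq1 := card_quot_add_cls_le N
  have hq2 := card_sub_one_le_cls_mul N hNc'
  rw [← Nat.card_congr eH.toEquiv] at hq2
  have hkpos : 0 < Nat.card (ConjClasses (G ⧸ N)) := Nat.card_pos
  refine action_part (q := q) φ hinj hirr h7 xH hxo hzn
    (fun hd => hp2 (hd.trans (Subgroup.card_subgroup_dvd_card H))) (fun v hv => ?_) _ (by omega) ?_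
  · have h1 : x * (v : G) * x⁻¹ = v := congrArg Subtype.val hv
    exact Subtype.ext (hfix _ v.2 (mul_inv_eq_iff_eq_mul.1 h1))
  · have hHpos : 0 < Nat.card H := Nat.card_pos
    calc Nat.card N ≤ (cls N + 1) * Nat.card H := by rw [add_mul, one_mul]; omega
      _ ≤ _ := Nat.mul_le_mul_right _ (by omega)

/-- the class number bound -/
theorem fitting_bound {G : Type u} [Group G] [Finite G] (hG : Group.IsSolvable G) (p : ℕ) [hpF : Fact p.Prime]
    (hp : p ∣ (Cfsg.fittingSubgroup G).index) :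
    (p : ℝ) / (3 * logb 2 p) ≤ Nat.card (ConjClasses G) := by
  have hk : (1 : ℝ) ≤ Nat.card (ConjClasses G) := by exact_mod_cast (Nat.card_pos (α := ConjClasses G))
  have hp1 : (1 : ℝ) < p := by exact_mod_cast hpF.out.one_lt
  have hL : 1 ≤ logb 2 (p : ℝ) := by
    rw [le_logb_iff_rpow_le one_lt_two (by linarith), rpow_one]
    exact_mod_cast hpF.out.two_le
  rcases Nat.lt_or_ge p 7 with h7 | h7
  · refine le_trans ?_ hk
    rw [div_le_one (by linarith)]
    rcases (show p ≤ 3 ∨ 4 ≤ p by omega) with h3 | h4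
    · have : (p : ℝ) ≤ 3 := by exact_mod_cast h3
      linarith
    · have h6 : (p : ℝ) ≤ 6 := by exact_mod_cast (show p ≤ 6 by omega)
      have : (2 : ℝ) ≤ logb 2 (p : ℝ) := by
        rw [le_logb_iff_rpow_le one_lt_two (by linarith), show (2 : ℝ) = ((2 : ℕ) : ℝ) by norm_num,
          rpow_natCast]
        have : (4 : ℝ) ≤ p := by exact_mod_cast h4
        norm_num
        linarith
      linarith
  by_cases hp2 : p ^ 2 ∣ Nat.card G
  · have h := class_bound (Nat.card G) G hG rfl p hp2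
    have h' : (49 : ℝ) * p ≤ 60 * Nat.card (ConjClasses G) := by exact_mod_cast h
    rw [div_le_iff₀ (by linarith)]
    nlinarith
  obtain ⟨x, hx⟩ := exists_prime_orderOf_dvd_card' p
    (hp.trans (Subgroup.index_dvd_card (Cfsg.fittingSubgroup G)))
  refine bound_once _ G hG rfl p h7 hp2 x hx fun hn => hp2 ?_
  have hle : zpowers x ≤ Cfsg.fittingSubgroup G := le_sSup (show (zpowers x).Normal ∧ Group.IsNilpotent _ from
    ⟨hn, (IsPGroup.of_card (n := 1) (by rw [Nat.card_zpowers, hx, pow_one])).isNilpotent⟩)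
  rw [← Subgroup.card_mul_index (Cfsg.fittingSubgroup G), sq]
  refine Nat.mul_dvd_mul ?_ hp
  rw [← hx, ← Nat.card_zpowers]
  exact card_dvd_of_le hle

end Cfsg.Agent.ClassNumber.FittingPrime
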